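/-
The elements of the Siegel parabolic subgroup of the orthogonal groups of plus type.
-/
import Cfsg.Agent.Lib.Classical.WeilOmega.Alt
import Cfsg.Agent.Lib.Classical.SLBasic
import Cfsg.Agent.Lib.Perm.Trans.QuadStd
import Cfsg.Agent.Lib.Perm.Trans.QuadSimple

set_option autoImplicit false

namespace CfsgLib.Classical.OPlus

open Matrix CfsgLib.Classical.WeilOmega

variable {F : Type*} [Field F] {m : ℕ}

/-- Coordinates. -/
abbrev Idx (m : ℕ) : Type := Fin m ⊕ Fin m

/-- The full orthogonal group. -/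
abbrev Iso (F : Type*) [Field F] (m : ℕ) : Type _ := ↥(Cfsg.isometryGroup F (Cfsg.quadFormPlus m F))

/-- The group under consideration. -/
abbrev Om (F : Type*) [Field F] (m : ℕ) : Type _ := ↥(Cfsg.Omega F (Cfsg.quadFormPlus m F))

theorem qf_elim (x y : Fin m → F) : Cfsg.quadFormPlus m F (Sum.elim x y) = x ⬝ᵥ y := rfl

theorem iso_ext {g h : Iso F m} (e : g.1.1 = h.1.1) : g = h := Subtype.ext (Units.ext e)

/-- Turn a matrix preserving the form, with an inverse, into an isometry. -/
def mkIso (A B : Matrix (Idx m) (Idx m) F) (h1 : A * B = 1) (h2 : B * A = 1)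
    (hQ : ∀ x y, Cfsg.quadFormPlus m F (A *ᵥ Sum.elim x y) = x ⬝ᵥ y) : Iso F m :=
  ⟨⟨A, B, h1, h2⟩, fun u _ => by
    show Cfsg.quadFormPlus m F (A *ᵥ u) = Cfsg.quadFormPlus m F u
    rw [← Sum.elim_comp_inl_inr u, hQ, qf_elim]⟩

theorem alt_dot (M : Matrix (Fin m) (Fin m) F) (y : Fin m → F) : ((M - Mᵀ) *ᵥ y) ⬝ᵥ y = 0 := by
  rw [sub_mulVec, sub_dotProduct, mulVec_transpose, ← dotProduct_mulVec, dotProduct_comm (M *ᵥ y), sub_self]

/-- The Siegel radical. -/
def elI (M : Matrix (Fin m) (Fin m) F) : Iso F m :=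
  mkIso (fromBlocks 1 (M - Mᵀ) 0 1) (fromBlocks 1 (-(M - Mᵀ)) 0 1)
    (by simp [fromBlocks_multiply, fromBlocks_one]) (by simp [fromBlocks_multiply, fromBlocks_one]) fun x y => by
    rw [fromBlocks_mulVec, qf_elim]
    simp [add_dotProduct, alt_dot, -sub_mulVec, -mulVec_sub]

theorem elI_val (M : Matrix (Fin m) (Fin m) F) : (elI M).1.1 = fromBlocks 1 (M - Mᵀ) 0 1 := rfl

theorem elI_mul (M M' : Matrix (Fin m) (Fin m) F) : elI M * elI M' = elI (M + M') :=
  iso_ext (by
    show fromBlocks 1 (M - Mᵀ) 0 1 * fromBlocks 1 (M' - M'ᵀ) 0 1 = fromBlocks 1 (M + M' - (M + M')ᵀ) 0 1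
    rw [fromBlocks_multiply]
    simp [transpose_add]
    abel)

theorem elI_congr {M M' : Matrix (Fin m) (Fin m) F} (h : M - Mᵀ = M' - M'ᵀ) : elI M = elI M' :=
  iso_ext (by rw [elI_val, elI_val, h])

theorem elI_zero : elI (0 : Matrix (Fin m) (Fin m) F) = 1 :=
  iso_ext (by rw [elI_val]; simp [fromBlocks_one])

theorem elI_inv (M : Matrix (Fin m) (Fin m) F) : (elI M)⁻¹ = elI (-M) := by
  rw [inv_eq_iff_mul_eq_one, elI_mul, add_neg_cancel, elI_zero]

/-- The Levi complement. -/
def leI : GL (Fin m) F →* Iso F m where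
  toFun g := mkIso (fromBlocks g.1 0 0 (g⁻¹).1ᵀ) (fromBlocks (g⁻¹).1 0 0 g.1ᵀ)
    (by simp [fromBlocks_multiply, ← transpose_mul, fromBlocks_one])
    (by simp [fromBlocks_multiply, ← transpose_mul, fromBlocks_one]) fun x y => by
    rw [fromBlocks_mulVec, qf_elim]
    simp only [zero_mulVec, add_zero, zero_add, Sum.elim_comp_inl, Sum.elim_comp_inr]
    rw [mulVec_transpose, dotProduct_comm, ← dotProduct_mulVec, mulVec_mulVec, ← Units.val_mul,
      inv_mul_cancel, Units.val_one, one_mulVec, dotProduct_comm]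
  map_one' := iso_ext (by simp [mkIso, fromBlocks_one])
  map_mul' g h := iso_ext (by
    show fromBlocks (g * h).1 0 0 ((g * h)⁻¹).1ᵀ =
      fromBlocks g.1 0 0 (g⁻¹).1ᵀ * fromBlocks h.1 0 0 (h⁻¹).1ᵀ
    rw [fromBlocks_multiply]; simp [transpose_mul])

theorem leI_val (g : GL (Fin m) F) : (leI g).1.1 = fromBlocks g.1 0 0 (g⁻¹).1ᵀ := rfl

theorem leI_mul_elI (g : GL (Fin m) F) (M : Matrix (Fin m) (Fin m) F) :
    leI g * elI M = elI (g.1 * M * g.1ᵀ) * leI g := by
  refine iso_ext ?_
  show fromBlocks g.1 0 0 (g⁻¹).1ᵀ * fromBlocks 1 (M - Mᵀ) 0 1 =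
    fromBlocks 1 (g.1 * M * g.1ᵀ - (g.1 * M * g.1ᵀ)ᵀ) 0 1 * fromBlocks g.1 0 0 (g⁻¹).1ᵀ
  have h1 : g.1ᵀ * (g⁻¹).1ᵀ = 1 := by rw [← transpose_mul, ← Units.val_mul, inv_mul_cancel]; simp
  rw [fromBlocks_multiply, fromBlocks_multiply]
  simp only [transpose_mul, transpose_transpose, Matrix.sub_mul, Matrix.mul_sub, Matrix.mul_assoc, h1,
    Matrix.mul_zero, Matrix.zero_mul, Matrix.one_mul, Matrix.mul_one, zero_add, add_zero, sub_self]

/-- The interchange of two hyperbolic pairs' vectors at the indices in a set. -/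
def swI (i : Fin m) : Iso F m :=
  mkIso (fromBlocks (1 - single i i 1) (single i i 1) (single i i 1) (1 - single i i 1))
    (fromBlocks (1 - single i i 1) (single i i 1) (single i i 1) (1 - single i i 1))
    (by rw [fromBlocks_multiply, ← fromBlocks_one]; congr 1 <;> simp [Matrix.sub_mul, Matrix.mul_sub])
    (by rw [fromBlocks_multiply, ← fromBlocks_one]; congr 1 <;> simp [Matrix.sub_mul, Matrix.mul_sub]) fun x y => by
    rw [fromBlocks_mulVec, qf_elim]
    simp only [Sum.elim_comp_inl, Sum.elim_comp_inr, sub_mulVec, one_mulVec, single_mulVec, one_mul]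
    rw [show Function.update (0 : Fin m → F) i (x i) = Pi.single i (x i) from rfl,
      show Function.update (0 : Fin m → F) i (y i) = Pi.single i (y i) from rfl]
    simp only [add_dotProduct, sub_dotProduct, dotProduct_add, dotProduct_sub, single_dotProduct,
      dotProduct_single, Pi.add_apply, Pi.sub_apply, Pi.single_eq_same]
    ring

theorem swI_sq (i : Fin m) : swI (F := F) i * swI i = 1 :=
  iso_ext (swI i).1.val_inv

theorem comm_mem (g h : Iso F m) : g * h * g⁻¹ * h⁻¹ ∈ Cfsg.Omega F (Cfsg.quadFormPlus m F) :=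
  Subgroup.commutator_mem_commutator (Subgroup.mem_top g) (Subgroup.mem_top h)

theorem leI_sl_mem (hm : 3 ≤ m) (g : SpecialLinearGroup (Fin m) F) :
    leI (SpecialLinearGroup.toGL g) ∈ Cfsg.Omega F (Cfsg.quadFormPlus m F) := by
  have h := CfsgLib.Classical.sl_commutator (F := F) hm
  have hm' := Subgroup.map_commutator ⊤ ⊤ (leI.comp (SpecialLinearGroup.toGL (n := Fin m) (R := F)))
  rw [← commutator_def, h] at hm'
  have : leI (SpecialLinearGroup.toGL g) ∈
      (⊤ : Subgroup (SpecialLinearGroup (Fin m) F)).map (leI.comp SpecialLinearGroup.toGL) :=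
    Subgroup.mem_map_of_mem _ (Subgroup.mem_top g)
  rw [hm'] at this
  exact Subgroup.commutator_mono le_top le_top this

/-- The elementary transvection. -/
def trv {i j : Fin m} (hij : i ≠ j) (c : F) : SpecialLinearGroup (Fin m) F :=
  ⟨transvection i j c, det_transvection_of_ne i j hij c⟩

theorem trv_val {i j : Fin m} (hij : i ≠ j) (c : F) :
    (SpecialLinearGroup.toGL (trv hij c)).1 = transvection i j c := rfl

theorem exists_third (hm : 3 ≤ m) (i j : Fin m) : ∃ k : Fin m, i ≠ k ∧ j ≠ k := by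
  by_contra h
  push Not at h
  have : (Finset.univ : Finset (Fin m)) ⊆ {i, j} := fun k _ => by
    rcases eq_or_ne i k with e | e
    · simp [e]
    · simp [h k e]
  have := (Finset.card_le_card this).trans Finset.card_le_two
  rw [Finset.card_univ, Fintype.card_fin] at this
  omega

theorem elI_mem (hm : 3 ≤ m) (M : Matrix (Fin m) (Fin m) F) :
    elI M ∈ Cfsg.Omega F (Cfsg.quadFormPlus m F) := by
  induction M using Matrix.induction_on' with
  | h_zero => rw [elI_zero]; exact one_mem _
  | h_add M N hM hN =>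
    have := mul_mem hM hN
    rwa [elI_mul] at this
  | h_std_basis i j c =>
    rcases eq_or_ne i j with rfl | hij
    · rw [elI_congr (M' := 0) (by rw [transpose_single]; simp), elI_zero]
      exact one_mem _
    · obtain ⟨k, hik, hjk⟩ := exists_third hm i j
      have h := comm_mem (leI (SpecialLinearGroup.toGL (trv hik c))) (elI (single k j 1))
      rw [leI_mul_elI, mul_inv_cancel_right, elI_inv, elI_mul, trv_val] at h
      convert h using 2
      simp [transvection, Matrix.mul_add, Matrix.add_mul, transpose_add, hjk, hjk.symm, hik, hik.symm]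

/-- Elements of the radical. -/
def el (hm : 3 ≤ m) (M : Matrix (Fin m) (Fin m) F) : Om F m := ⟨elI M, elI_mem hm M⟩

theorem el_mul (hm : 3 ≤ m) (M M' : Matrix (Fin m) (Fin m) F) : el hm M * el hm M' = el hm (M + M') :=
  Subtype.ext (elI_mul M M')

theorem el_zero (hm : 3 ≤ m) : el hm (0 : Matrix (Fin m) (Fin m) F) = 1 := Subtype.ext elI_zero

theorem el_congr (hm : 3 ≤ m) {M M' : Matrix (Fin m) (Fin m) F} (h : M - Mᵀ = M' - M'ᵀ) :
    el hm M = el hm M' := Subtype.ext (elI_congr h)

/-- The special linear group in the Levi factor. -/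
def le (hm : 3 ≤ m) : SpecialLinearGroup (Fin m) F →* Om F m :=
  (leI.comp SpecialLinearGroup.toGL).codRestrict _ (leI_sl_mem hm)

/-- The diagonal matrix with one entry not one. -/
def diagGL (i : Fin m) (u : Fˣ) : GL (Fin m) F :=
  ⟨diagonal (Function.update 1 i (u : F)), diagonal (Function.update 1 i (↑u⁻¹ : F)), by
    rw [diagonal_mul_diagonal, ← diagonal_one]; congr 1; funext k
    by_cases hk : k = i <;> simp [hk], by
    rw [diagonal_mul_diagonal, ← diagonal_one]; congr 1; funext k
    by_cases hk : k = i <;> simp [hk]⟩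

theorem diagGL_mul (i : Fin m) (u v : Fˣ) : diagGL i (u * v) = diagGL i u * diagGL i v := by
  refine Units.ext ?_
  show diagonal _ = diagonal _ * diagonal _
  rw [diagonal_mul_diagonal]; congr 1; funext k
  by_cases hk : k = i <;> simp [hk]

theorem swI_conj_diag (i : Fin m) (u : Fˣ) : swI i * (leI (diagGL i u))⁻¹ * (swI i)⁻¹ = leI (diagGL i u) := by
  rw [mul_inv_eq_iff_eq_mul]
  refine iso_ext ?_
  show fromBlocks (1 - single i i 1) (single i i 1) (single i i 1) (1 - single i i 1) *
      fromBlocks (diagonal (Function.update 1 i (↑u⁻¹ : F))) 0 0 (diagonal (Function.update 1 i (u : F)))ᵀ =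
    fromBlocks (diagonal (Function.update 1 i (u : F))) 0 0 (diagonal (Function.update 1 i (↑u⁻¹ : F)))ᵀ *
      fromBlocks (1 - single i i 1) (single i i 1) (single i i 1) (1 - single i i 1)
  rw [fromBlocks_multiply, fromBlocks_multiply]
  congr 1 <;>
  · simp only [Matrix.mul_zero, Matrix.zero_mul, add_zero, zero_add, diagonal_transpose]
    ext k l
    simp [diagonal_mul, mul_diagonal, Matrix.sub_apply, Matrix.one_apply, single_apply]
    try split_ifs <;> grind [Function.update_apply]

theorem leI_diag_sq_mem (i : Fin m) (u : Fˣ) :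
    leI (diagGL i (u * u)) ∈ Cfsg.Omega F (Cfsg.quadFormPlus m F) := by
  have h := comm_mem (leI (diagGL i u)) (swI i)
  rw [mul_assoc _ (swI i), mul_assoc _ _ (swI i)⁻¹, swI_conj_diag, ← map_mul, ← diagGL_mul] at h
  exact h

theorem det_diagGL (i : Fin m) (u : Fˣ) : (diagGL i u).1.det = u := by
  show (diagonal _).det = _
  rw [det_diagonal, Finset.prod_update_of_mem (Finset.mem_univ _)]
  simp

/-- A diagonal element with two entries whose product is a square. -/
theorem leI_pair_mem (hm : 3 ≤ m) {i k : Fin m} (u w v : Fˣ) (h : u * w = v * v) :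
    leI (diagGL i u * diagGL k w) ∈ Cfsg.Omega F (Cfsg.quadFormPlus m F) := by
  have hs : ((diagGL i (v * v))⁻¹ * (diagGL i u * diagGL k w) : GL (Fin m) F).1.det = 1 := by
    have e : (diagGL i u * diagGL k w).1.det = (diagGL (F := F) i (v * v)).1.det := by
      rw [Units.val_mul, det_mul, det_diagGL, det_diagGL, det_diagGL, ← h, Units.val_mul]
    rw [Units.val_mul, det_mul, e, ← det_mul, ← Units.val_mul, inv_mul_cancel, Units.val_one, det_one]
  have h1 := mul_mem (leI_diag_sq_mem (m := m) i v) (leI_sl_mem hm ⟨_, hs⟩)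
  rw [← map_mul] at h1
  convert h1 using 2
  refine Units.ext ?_
  show _ = (diagGL i (v * v)).1 * ((diagGL i (v * v))⁻¹ * (diagGL i u * diagGL k w) : GL (Fin m) F).1
  rw [← Units.val_mul, mul_inv_cancel_left]

end CfsgLib.Classical.OPlus
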