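/-
The centraliser of a long root element and a bound on its conjugacy class.
-/
import Cfsg.Agent.Lib.Classical.OmegaPlusDeg.Elems
import Cfsg.Agent.Lib.Classical.QuadOrder
import Cfsg.Agent.Lib.Invol.TwoClasses

set_option autoImplicit false

namespace CfsgLib.Classical.OPlus

open Matrix

variable {F : Type*} [Field F]

/-- Split the coordinates. -/
def split (a b : ℕ) : Idx (a + b) ≃ Idx a ⊕ Idx b :=
  (Equiv.sumCongr finSumFinEquiv.symm finSumFinEquiv.symm).trans (Equiv.sumSumSumComm _ _ _ _)

theorem qf_split (a b : ℕ) (v : Idx a ⊕ Idx b → F) :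
    Cfsg.quadFormPlus (a + b) F (v ∘ split a b) =
      Cfsg.quadFormPlus a F (v ∘ Sum.inl) + Cfsg.quadFormPlus b F (v ∘ Sum.inr) := by
  simp only [Cfsg.quadFormPlus, Fin.sum_univ_add]
  congr 1 <;> refine Finset.sum_congr rfl fun i _ => ?_ <;> simp [split]

/-- The orthogonal sum of two isometries. -/
def glueMat (a b : ℕ) (g : Iso F a) (h : Iso F b) : Matrix (Idx (a + b)) (Idx (a + b)) F :=
  (fromBlocks g.1.1 0 0 h.1.1).submatrix (split a b) (split a b)

theorem glueMat_mul (a b : ℕ) (g g' : Iso F a) (h h' : Iso F b) :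
    glueMat a b g h * glueMat a b g' h' = glueMat a b (g * g') (h * h') := by
  rw [glueMat, glueMat, submatrix_mul_equiv, fromBlocks_multiply]
  simp [glueMat]

theorem glueMat_one (a b : ℕ) : glueMat a b (1 : Iso F a) (1 : Iso F b) = 1 := by
  rw [glueMat]
  simp [fromBlocks_one]

/-- The orthogonal sum as a homomorphism. -/
def glue (a b : ℕ) : Iso F a × Iso F b →* Iso F (a + b) where
  toFun p := ⟨⟨glueMat a b p.1 p.2, glueMat a b p.1⁻¹ p.2⁻¹,
      by rw [glueMat_mul, mul_inv_cancel, mul_inv_cancel, glueMat_one],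
      by rw [glueMat_mul, inv_mul_cancel, inv_mul_cancel, glueMat_one]⟩, fun u _ => by
    show Cfsg.quadFormPlus (a + b) F (glueMat a b p.1 p.2 *ᵥ u) = Cfsg.quadFormPlus (a + b) F u
    obtain ⟨v, rfl⟩ : ∃ v : Idx a ⊕ Idx b → F, v ∘ split a b = u := ⟨u ∘ (split a b).symm, by ext x; simp⟩
    rw [glueMat, submatrix_mulVec_equiv, qf_split, qf_split, Function.comp_assoc, Equiv.self_comp_symm,
      Function.comp_id, fromBlocks_mulVec, Sum.elim_comp_inl, Sum.elim_comp_inr]
    simp only [zero_mulVec, add_zero, zero_add]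
    have h1 : Cfsg.quadFormPlus a F (p.1.1.1 *ᵥ (v ∘ Sum.inl)) = Cfsg.quadFormPlus a F (v ∘ Sum.inl) :=
      p.1.2 _ 0
    have h2 : Cfsg.quadFormPlus b F (p.2.1.1 *ᵥ (v ∘ Sum.inr)) = Cfsg.quadFormPlus b F (v ∘ Sum.inr) :=
      p.2.2 _ 0
    rw [h1, h2]⟩
  map_one' := iso_ext (glueMat_one a b)
  map_mul' p p' := iso_ext (glueMat_mul a b p.1 p'.1 p.2 p'.2).symm

theorem glue_injective (a b : ℕ) : Function.Injective (glue (F := F) a b) := by
  intro p p' h
  have h1 : glueMat a b p.1 p.2 = glueMat a b p'.1 p'.2 := congrArg (fun x : Iso F (a + b) => x.1.1) h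
  have h2 := congrArg (fun M => M.submatrix (split a b).symm (split a b).symm) h1
  simp only [glueMat, submatrix_submatrix, Equiv.self_comp_symm, submatrix_id_id] at h2
  obtain ⟨e1, -, -, e2⟩ := fromBlocks_inj.1 h2
  exact Prod.ext (iso_ext e1) (iso_ext e2)

theorem leI_injective {m : ℕ} : Function.Injective (leI (F := F) (m := m)) := by
  intro g g' h
  exact Units.ext (fromBlocks_inj.1 (congrArg (fun x : Iso F m => x.1.1) h)).1

/-- The root element in the smaller group. -/
theorem glue_root (r : ℕ) : glue 2 r (elI (single (0 : Fin 2) 1 (1 : F)), 1) =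
    elI (single (Fin.castAdd r (0 : Fin 2)) (Fin.castAdd r 1) 1) := by
  refine iso_ext ?_
  show glueMat 2 r _ _ = _
  rw [glueMat, elI_val, elI_val, transpose_single, transpose_single]
  ext x y
  rcases x with x | x <;> induction x using Fin.addCases <;> rcases y with y | y <;> induction y using Fin.addCases <;>
    simp [split, fromBlocks, Matrix.one_apply, single_apply, Fin.ext_iff] <;> (repeat intro) <;>
    (try split_ifs) <;> first | omega | simp

/-- The special linear group of the plane times the rest fixes the root element. -/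
def centHom (r : ℕ) : SpecialLinearGroup (Fin 2) F × Iso F r →* Iso F (2 + r) :=
  (glue 2 r).comp ((leI.comp SpecialLinearGroup.toGL).prodMap (MonoidHom.id _))

theorem centHom_injective (r : ℕ) : Function.Injective (centHom (F := F) r) := by
  refine (glue_injective 2 r).comp (Function.Injective.prodMap (f := fun g => leI (SpecialLinearGroup.toGL g)) (g := id) ?_ Function.injective_id)
  exact leI_injective.comp SpecialLinearGroup.toGL_injective

theorem centHom_mem (r : ℕ) (p : SpecialLinearGroup (Fin 2) F × Iso F r) :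
    centHom r p ∈ Subgroup.centralizer ({elI (single (Fin.castAdd r (0 : Fin 2)) (Fin.castAdd r 1) (1 : F))} : Set (Iso F (2 + r))) := by
  rw [Subgroup.mem_centralizer_singleton_iff, ← glue_root r]
  show glue 2 r (leI (SpecialLinearGroup.toGL p.1), p.2) * _ = _ * glue 2 r (leI (SpecialLinearGroup.toGL p.1), p.2)
  rw [← map_mul, ← map_mul, Prod.mk_mul_mk, Prod.mk_mul_mk, one_mul, mul_one, leI_mul_elI,
    elI_congr (M' := single (0 : Fin 2) 1 1)]
  have hd : p.1.1 0 0 * p.1.1 1 1 - p.1.1 0 1 * p.1.1 1 0 = 1 := by rw [← det_fin_two]; exact p.1.2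
  show p.1.1 * single (0 : Fin 2) 1 1 * p.1.1ᵀ - (p.1.1 * single (0 : Fin 2) 1 1 * p.1.1ᵀ)ᵀ = _
  ext x y
  fin_cases x <;> fin_cases y <;> simp [Matrix.mul_apply, single_apply, Fin.sum_univ_two] <;>
    first | linear_combination hd | linear_combination -hd | ring

variable [Fintype F]

/-- The class of a root element is bounded multiplicatively. -/
theorem class_dvd (r : ℕ) (hr : 1 ≤ r) :
    Nat.card {x : Om F (2 + r) // IsConj (el (hm := (by omega : 3 ≤ 2 + r))
        (single (Fin.castAdd r (0 : Fin 2)) (Fin.castAdd r 1) (1 : F))) x} *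
      (Fintype.card F * (Fintype.card F ^ 2 - 1) * Nat.card (Iso F r)) ∣ Nat.card (Iso F (2 + r)) := by
  classical
  set u : Om F (2 + r) := el (hm := (by omega : 3 ≤ 2 + r))
    (single (Fin.castAdd r (0 : Fin 2)) (Fin.castAdd r 1) (1 : F)) with hu
  set N : Subgroup (Iso F (2 + r)) := Cfsg.Omega F (Cfsg.quadFormPlus (2 + r) F) with hN
  set C : Subgroup (Iso F (2 + r)) := Subgroup.centralizer ({u.1} : Set (Iso F (2 + r))) with hC
  haveI : N.Normal := by rw [hN]; infer_instance
  have hH : Fintype.card F * (Fintype.card F ^ 2 - 1) * Nat.card (Iso F r) ∣ Nat.card C := by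
    have h1 := Subgroup.card_dvd_of_le (show (centHom (F := F) r).range ≤ C by
      rintro _ ⟨p, rfl⟩
      exact centHom_mem r p)
    rw [← Nat.card_congr (MonoidHom.ofInjective (centHom_injective (F := F) r)).toEquiv, Nat.card_prod,
      card_sl2, mul_comm (Fintype.card F - 1), ← Nat.sq_sub_sq, one_pow] at h1
    exact h1
  refine (mul_dvd_mul_left _ hH).trans ?_
  have hclass : Nat.card {x : Om F (2 + r) // IsConj u x} *
      Nat.card (Subgroup.centralizer ({u} : Set (Om F (2 + r)))) = Nat.card (Om F (2 + r)) :=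
    CfsgLib.Invol.card_isConj_mul u
  have hcap : Nat.card (Subgroup.centralizer ({u} : Set (Om F (2 + r)))) = Nat.card (N.subgroupOf C) := by
    refine Nat.card_congr ⟨fun g => ⟨⟨g.1.1, ?_⟩, g.1.2⟩, fun g => ⟨⟨g.1.1, g.2⟩, ?_⟩, fun g => rfl, fun g => rfl⟩
    · exact Subgroup.mem_centralizer_singleton_iff.2
        (congrArg Subtype.val (Subgroup.mem_centralizer_singleton_iff.1 g.2))
    · exact Subgroup.mem_centralizer_singleton_iff.2
        (Subtype.ext (Subgroup.mem_centralizer_singleton_iff.1 g.1.2))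
  have h2 : (N.subgroupOf C).index ∣ N.index := Subgroup.relIndex_dvd_index_of_normal N C
  have h3 := (N.subgroupOf C).card_mul_index
  rw [← hcap] at h3
  have h5 := N.card_mul_index
  have h6 : Nat.card N = Nat.card (Om F (2 + r)) := rfl
  rw [h6, ← hclass] at h5
  rw [← h3, ← h5, mul_assoc]
  exact mul_dvd_mul_left _ (mul_dvd_mul_left _ h2)

end CfsgLib.Classical.OPlus
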