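/-
The orbits of the Levi complement on alternating matrices.
-/
import Cfsg.Agent.Lib.Classical.OmegaPlusDeg.Elems

set_option autoImplicit false

namespace CfsgLib.Classical.OPlus

open Matrix CfsgLib.Classical.WeilOmega

variable {F : Type*} [Field F] [Fintype F] {m : ℕ}

/-- Invariance under the congruences of the Levi complement. -/
def LevInv (T : Finset (Matrix (Fin m) (Fin m) F)) : Prop :=
  ∀ g : GL (Fin m) F, leI g ∈ Cfsg.Omega F (Cfsg.quadFormPlus m F) → ∀ B ∈ T, g.1ᵀ * B * g.1 ∈ T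

theorem congr_cancel (g : SpecialLinearGroup (Fin m) F) {X Y : Matrix (Fin m) (Fin m) F}
    (h : g.1ᵀ * X * g.1 = g.1ᵀ * Y * g.1) : X = Y := by
  have e : ∀ Z : Matrix (Fin m) (Fin m) F, (g⁻¹ : SpecialLinearGroup (Fin m) F).1ᵀ * (g.1ᵀ * Z * g.1) *
      (g⁻¹ : SpecialLinearGroup (Fin m) F).1 = Z := fun Z => by
    rw [← Matrix.mul_assoc, ← Matrix.mul_assoc, ← transpose_mul, ← sl_mul_val, mul_inv_cancel, sl_one_val,
      transpose_one, Matrix.one_mul, Matrix.mul_assoc, ← sl_mul_val, mul_inv_cancel, sl_one_val, Matrix.mul_one]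
  rw [← e X, ← e Y, h]

theorem diag_congr_apply (d : Fin m → F) (B : Matrix (Fin m) (Fin m) F) (x y : Fin m) :
    ((diagonal d)ᵀ * B * diagonal d) x y = d x * B x y * d y := by
  rw [diagonal_transpose, mul_diagonal, diagonal_mul]

theorem card_compl_pair (i j : Fin m) (h : i ≠ j) :
    Fintype.card {x : Fin m // x ≠ i ∧ x ≠ j} = m - 2 := by
  classical
  rw [Fintype.card_subtype, show (Finset.univ.filter fun x : Fin m => x ≠ i ∧ x ≠ j) = ({i, j} : Finset (Fin m))ᶜ by
    ext x; simp, Finset.card_compl, Finset.card_pair h, Fintype.card_fin]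

theorem two_mul_card_squares [DecidableEq F] :
    Fintype.card F - 1 ≤ 2 * (Finset.univ.image fun v : Fˣ => v * v).card := by
  classical
  have h := Finset.card_le_mul_card_image (f := fun v : Fˣ => v * v) Finset.univ 2 fun a ha => by
    obtain ⟨v, -, rfl⟩ := Finset.mem_image.1 ha
    refine le_trans (Finset.card_le_card (t := {v, -v}) fun x hx => ?_) Finset.card_le_two
    have e : (x : F) * x = v * v := by
      rw [← Units.val_mul, ← Units.val_mul, (Finset.mem_filter.1 hx).2]
    rcases mul_self_eq_mul_self_iff.1 e with e | e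
    · simp [Units.ext e]
    · simp [show x = -v from Units.ext (by simpa using e)]
  rw [Finset.card_univ, Fintype.card_units] at h
  exact h

/-- An invariant set containing a matrix that is not a wedge is large. -/
theorem card_nonwedge (hm : 4 ≤ m) {T : Finset (Matrix (Fin m) (Fin m) F)} (hT : LevInv T)
    {B : Matrix (Fin m) (Fin m) F} (hB : B ∈ T) (halt : IsAlt B) (h0 : B ≠ 0)
    (hw : ¬ ∃ u v, B = wedge u v) :
    Fintype.card F ^ (2 * m - 4) * (Fintype.card F - 1) * (Fintype.card F / 2) ≤ T.card := by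
  classical
  obtain ⟨g, i, j, k, l, hnd, hij, hkl, hri, hrj⟩ := (wedge_or_pairs halt h0).resolve_left hw
  simp only [List.nodup_cons, List.mem_cons, List.not_mem_nil, or_false, not_or, List.nodup_nil, and_true,
    not_false_eq_true] at hnd
  obtain ⟨⟨nij, nik, nil⟩, ⟨njk, njl⟩, nkl⟩ := hnd
  obtain ⟨B', hB'⟩ : ∃ B', B' = g.1ᵀ * B * g.1 := ⟨_, rfl⟩
  rw [← hB'] at hij hkl hri hrj
  have hB'T : B' ∈ T := hB' ▸ hT (SpecialLinearGroup.toGL g) (leI_sl_mem (by omega) g) B hB
  have hB'alt : IsAlt B' := by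
    constructor
    · intro x y
      have h1 : (g.1ᵀ * B * g.1)ᵀ = -(g.1ᵀ * B * g.1) := by
        rw [transpose_mul, transpose_mul, transpose_transpose, show Bᵀ = -B from by
          ext a b; exact halt.1 a b]
        simp [Matrix.mul_assoc]
      rw [hB']
      exact congrFun (congrFun h1 x) y
    · intro x
      rw [hB', Matrix.mul_assoc, Matrix.mul_apply]
      simp only [transpose_apply, Matrix.mul_apply, Finset.mul_sum]
      have hsplit : ∀ f : Fin m → Fin m → F, (∀ a b, f b a = -f a b) → (∀ a, f a a = 0) →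
          ∑ a, ∑ b, f a b = 0 := by
        intro f hf hd
        rw [← Fintype.sum_prod_type']
        refine Finset.sum_ninvolution (fun p => (p.2, p.1)) (fun p => ?_) (fun p hp e => ?_) (by simp) (by simp)
        · rw [hf p.1 p.2, add_neg_cancel]
        · exact hp (by rw [show p.2 = p.1 from congrArg Prod.fst e, hd])
      exact hsplit _ (fun a b => by rw [halt.1 a b]; ring) fun a => by rw [halt.2]; ring
  let S := Finset.univ.image fun v : Fˣ => v * v
  let P := {x : Fin m // x ≠ i ∧ x ≠ j} → F × F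
  let cc : P → Fin m → F := fun p x => if h : x ≠ i ∧ x ≠ j then (p ⟨x, h⟩).1 else 0
  let dd : P → Fin m → F := fun p x => if h : x ≠ i ∧ x ≠ j then (p ⟨x, h⟩).2 else 0
  let h : P → SpecialLinearGroup (Fin m) F := fun p =>
    trow i (cc p) (by simp [cc]) * trow j (dd p) (by simp [dd])
  let D : Fˣ × Fˣ → Fin m → F := fun us =>
    Function.update (1 : Fin m → F) i ((us.1 * us.2 : Fˣ) : F) * Function.update (1 : Fin m → F) k (us.1 : F)
  let C : Fˣ × Fˣ → Matrix (Fin m) (Fin m) F := fun us => (diagonal (D us))ᵀ * B' * diagonal (D us)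
  let f : P × (Fˣ × Fˣ) → Matrix (Fin m) (Fin m) F := fun z => (h z.1).1ᵀ * C z.2 * (h z.1).1
  have hD : ∀ us, D us i = ((us.1 * us.2 : Fˣ) : F) ∧ D us j = 1 ∧ D us k = us.1 ∧ D us l = 1 := fun us => by
    refine ⟨?_, ?_, ?_, ?_⟩ <;>
      simp [D, Pi.mul_apply, nij, Ne.symm nij, nik, Ne.symm nik, nil, Ne.symm nil, njk, Ne.symm njk, njl, nkl,
        Ne.symm nkl]
  have hmaps : ∀ z ∈ (Finset.univ : Finset P) ×ˢ ((Finset.univ : Finset Fˣ) ×ˢ S), f z ∈ T := by
    rintro ⟨p, u, s⟩ hz
    obtain ⟨v, -, hv⟩ := Finset.mem_image.1 (Finset.mem_product.1 (Finset.mem_product.1 hz).2).2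
    have hd := leI_pair_mem (m := m) (i := i) (k := k) (by omega) (u * s) u (u * v) (by
      rw [show s = v * v from hv.symm]; simp [mul_comm, mul_left_comm])
    have e : (diagGL i (u * s) * diagGL k u : GL (Fin m) F).1 = diagonal (D (u, s)) := by
      show diagonal _ * diagonal _ = _
      rw [diagonal_mul_diagonal]
      rfl
    have h1 := hT _ hd B' hB'T
    rw [e] at h1
    exact hT (SpecialLinearGroup.toGL (h p)) (leI_sl_mem (by omega) _) _ h1
  have hCalt : ∀ us, C us i i = 0 ∧ C us j j = 0 ∧ (∀ x, x ≠ j → C us i x = 0) ∧ (∀ x, x ≠ i → C us j x = 0) :=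
    fun us => ⟨by simp [C, diag_congr_apply, hB'alt.2], by simp [C, diag_congr_apply, hB'alt.2],
      fun x hx => by simp [C, diag_congr_apply, hri x hx], fun x hx => by simp [C, diag_congr_apply, hrj x hx]⟩
  have key : ∀ p us, f (p, us) i j = C us i j ∧ ∀ x (hx : x ≠ i ∧ x ≠ j),
      f (p, us) i x = C us i j * (p ⟨x, hx⟩).2 ∧ f (p, us) j x = C us j i * (p ⟨x, hx⟩).1 := by
    intro p us
    obtain ⟨hii, hjj, hi', hj'⟩ := hCalt us
    have hc : cc p i = 0 ∧ cc p j = 0 := by simp [cc]
    have hd' : dd p i = 0 ∧ dd p j = 0 := by simp [dd]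
    have e : ∀ x y, f (p, us) x y =
        ((trow j (dd p) (by simp [dd])).1ᵀ * ((trow i (cc p) (by simp [cc])).1ᵀ * C us *
          (trow i (cc p) (by simp [cc])).1) * (trow j (dd p) (by simp [dd])).1) x y := fun x y => by
      simp only [f, h, sl_mul_val, transpose_mul, Matrix.mul_assoc]
    refine ⟨?_, fun x hx => ⟨?_, ?_⟩⟩
    · rw [e]
      simp only [trow_mul_apply, hc, hd', hii, hjj]
      ring
    · rw [e]
      simp only [trow_mul_apply, hc, hd', hii, hjj, hi' x hx.2, hj' x hx.1,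
        show dd p x = (p ⟨x, hx⟩).2 from dif_pos hx]
      ring
    · rw [e]
      simp only [trow_mul_apply, hc, hd', hii, hjj, hi' x hx.2, hj' x hx.1,
        show cc p x = (p ⟨x, hx⟩).1 from dif_pos hx]
      ring
  have hinj : Set.InjOn f ↑((Finset.univ : Finset P) ×ˢ ((Finset.univ : Finset Fˣ) ×ˢ S)) := by
    rintro ⟨p, u, s⟩ - ⟨p', u', s'⟩ - e
    obtain ⟨a1, b1⟩ := key p (u, s)
    obtain ⟨a2, b2⟩ := key p' (u', s')
    rw [e] at a1 b1
    have e1 : C (u, s) i j = C (u', s') i j := a1.symm.trans a2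
    have eji : B' j i ≠ 0 := by rw [hB'alt.1 i j]; simpa using hij
    have eus : u * s = u' * s' := by
      simp only [C, diag_congr_apply, hD] at e1
      exact Units.ext (mul_right_cancel₀ hij (by simpa using e1))
    have ep : p = p' := by
      funext ⟨x, hx⟩
      obtain ⟨c1, d1⟩ := b1 x hx
      obtain ⟨c2, d2⟩ := b2 x hx
      have n1 : C (u, s) i j ≠ 0 := by simp [C, diag_congr_apply, hD, hij]
      have n2 : C (u, s) j i ≠ 0 := by simp [C, diag_congr_apply, hD, eji]
      have e2 : C (u, s) j i = C (u', s') j i := by simp only [C, diag_congr_apply, hD, eus]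
      exact Prod.ext (mul_left_cancel₀ n2 (d1.symm.trans (d2.trans (by rw [e2]))))
        (mul_left_cancel₀ n1 (c1.symm.trans (c2.trans (by rw [e1]))))
    subst ep
    have e3 := congrFun (congrFun (congr_cancel (h p) e) k) l
    simp only [C, diag_congr_apply, hD, mul_one] at e3
    have eu : u = u' := Units.ext (mul_right_cancel₀ hkl e3)
    subst eu
    rw [mul_left_cancel eus]
  have hcard := Finset.card_le_card_of_injOn f hmaps hinj
  rw [Finset.card_product, Finset.card_product, Finset.card_univ, Finset.card_univ, Fintype.card_units,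
    Fintype.card_fun, Fintype.card_prod, card_compl_pair i j nij] at hcard
  have hS := two_mul_card_squares (F := F)
  rw [← pow_two, ← pow_mul] at hcard
  calc Fintype.card F ^ (2 * m - 4) * (Fintype.card F - 1) * (Fintype.card F / 2)
      ≤ Fintype.card F ^ (2 * m - 4) * (Fintype.card F - 1) * S.card :=
        Nat.mul_le_mul_left _ (show Fintype.card F / 2 ≤ (Finset.univ.image fun v : Fˣ => v * v).card by omega)
    _ = Fintype.card F ^ (2 * (m - 2)) * ((Fintype.card F - 1) * S.card) := by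
        rw [show 2 * m - 4 = 2 * (m - 2) by omega]; ring
    _ ≤ T.card := hcard

theorem levInv_sl (hm : 3 ≤ m) {T : Finset (Matrix (Fin m) (Fin m) F)} (hT : LevInv T)
    (g : SpecialLinearGroup (Fin m) F) {B : Matrix (Fin m) (Fin m) F} (hB : B ∈ T) : g.1ᵀ * B * g.1 ∈ T :=
  hT (SpecialLinearGroup.toGL g) (leI_sl_mem hm g) B hB

omit [Fintype F] in
theorem wedge_plucker (u v : Fin m → F) {i j : Fin m} (h : wedge u v i j ≠ 0) (x y : Fin m) :
    wedge u v x y = (wedge u v i j)⁻¹ *
      (wedge u v i x * wedge u v j y - wedge u v j x * wedge u v i y) := by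
  rw [eq_inv_mul_iff_mul_eq₀ h]
  simp only [wedge_apply]
  ring

/-- An invariant set containing a nonzero wedge contains all of them. -/
theorem wedge_mem (hm : 3 ≤ m) {T : Finset (Matrix (Fin m) (Fin m) F)} (hT : LevInv T) {u v : Fin m → F}
    (h : wedge u v ∈ T) (h0 : wedge u v ≠ 0) {u' v' : Fin m → F} (h0' : wedge u' v' ≠ 0) : wedge u' v' ∈ T := by
  let i₀ : Fin m := ⟨0, by omega⟩
  let i₁ : Fin m := ⟨1, by omega⟩
  have h01 : i₀ ≠ i₁ := by simp [i₀, i₁, Fin.ext_iff]
  obtain ⟨g, hg0, hg1⟩ := exists_sl_pair hm h01 (linearIndependent_pair_of_wedge h0)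
  obtain ⟨k, hk0, hk1⟩ := exists_sl_pair hm h01 (linearIndependent_pair_of_wedge h0')
  have hmem := levInv_sl hm hT ⟨((k * g⁻¹ : SpecialLinearGroup (Fin m) F).1)ᵀ, by
    rw [det_transpose]; exact (k * g⁻¹).2⟩ h
  rw [congr_wedge, transpose_transpose] at hmem
  have hinv : ∀ (x y : Fin m → F), g.1 *ᵥ x = y → (k * g⁻¹).1 *ᵥ y = k.1 *ᵥ x := fun x y e => by
    rw [← e, mulVec_mulVec, ← sl_mul_val, inv_mul_cancel_right]
  rwa [hinv _ _ hg0, hinv _ _ hg1, hk0, hk1] at hmem

/-- The number of wedges with a given entry not zero. -/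
theorem card_entry_ne [DecidableEq F] {i j : Fin m} (hij : i ≠ j) {T : Finset (Matrix (Fin m) (Fin m) F)}
    (hall : ∀ B, B ∈ T ↔ B ≠ 0 ∧ ∃ u v, B = wedge u v) :
    (T.filter fun B => B i j ≠ 0).card = (Fintype.card F - 1) * Fintype.card F ^ (2 * (m - 2)) := by
  classical
  let P := {x : Fin m // x ≠ i ∧ x ≠ j} → F × F
  let r : Fˣ → P → Fin m → F := fun β p x =>
    if h : x ≠ i ∧ x ≠ j then (p ⟨x, h⟩).1 else if x = j then (β : F) else 0
  let t : Fˣ → P → Fin m → F := fun β p x =>
    if h : x ≠ i ∧ x ≠ j then (p ⟨x, h⟩).2 else if x = i then -(β : F) else 0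
  let f : Fˣ × P → Matrix (Fin m) (Fin m) F := fun z => wedge ((z.1 : F)⁻¹ • r z.1 z.2) (t z.1 z.2)
  have hval : ∀ β p, f (β, p) i j = (β : F) ∧ ∀ x (hx : x ≠ i ∧ x ≠ j),
      f (β, p) i x = (p ⟨x, hx⟩).1 ∧ f (β, p) j x = (p ⟨x, hx⟩).2 := fun β p => by
    have hβ := β.ne_zero
    refine ⟨?_, fun x hx => ⟨?_, ?_⟩⟩ <;>
      simp [f, r, t, wedge_apply, hij, Ne.symm hij, *]
  have hcard : Fintype.card (Fˣ × P) = (Fintype.card F - 1) * Fintype.card F ^ (2 * (m - 2)) := by
    rw [Fintype.card_prod, Fintype.card_units, Fintype.card_fun, Fintype.card_prod, card_compl_pair i j hij,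
      ← pow_two, ← pow_mul]
  rw [← hcard, ← Finset.card_univ]
  symm
  refine Finset.card_bij (fun z _ => f z) (fun z _ => ?_) (fun z _ z' _ e => ?_) fun B hB => ?_
  · obtain ⟨β, p⟩ := z
    have h1 := (hval β p).1
    refine Finset.mem_filter.2 ⟨(hall _).2 ⟨fun e => β.ne_zero ?_, _, _, rfl⟩, by rw [h1]; exact β.ne_zero⟩
    rw [← h1, e]
    rfl
  · obtain ⟨β, p⟩ := z
    obtain ⟨β', p'⟩ := z'
    obtain ⟨a1, b1⟩ := hval β p
    obtain ⟨a2, b2⟩ := hval β' p'
    rw [e] at a1 b1
    refine Prod.ext (Units.ext (a1.symm.trans a2)) (funext fun ⟨x, hx⟩ => ?_)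
    exact Prod.ext ((b1 x hx).1.symm.trans (b2 x hx).1) ((b1 x hx).2.symm.trans (b2 x hx).2)
  · obtain ⟨hBT, hBij⟩ := Finset.mem_filter.1 hB
    obtain ⟨-, u, v, rfl⟩ := (hall B).1 hBT
    refine ⟨(Units.mk0 _ hBij, fun x => (wedge u v i x.1, wedge u v j x.1)), Finset.mem_univ _, ?_⟩
    have hr : ∀ x, r (Units.mk0 _ hBij) (fun x => (wedge u v i x.1, wedge u v j x.1)) x = wedge u v i x := fun x => by
      by_cases hx : x ≠ i ∧ x ≠ j
      · simp [r, hx]
      · rcases not_and_or.1 hx with h | h <;> push Not at h <;> subst h <;> simp [r, hij, wedge_apply] <;> ring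
    have ht : ∀ x, t (Units.mk0 _ hBij) (fun x => (wedge u v i x.1, wedge u v j x.1)) x = wedge u v j x := fun x => by
      by_cases hx : x ≠ i ∧ x ≠ j
      · simp [t, hx]
      · rcases not_and_or.1 hx with h | h <;> push Not at h <;> subst h <;> simp [t, Ne.symm hij, wedge_apply] <;> ring
    ext x y
    rw [wedge_plucker u v hBij x y]
    simp only [f, wedge_apply (_ • _), Pi.smul_apply, smul_eq_mul, hr, ht, Units.val_mk0]
    ring

/-- Wedges with a given row not zero are few. -/
theorem card_row_ne [DecidableEq F] (hm : 2 ≤ m) (a : Fin m) {T : Finset (Matrix (Fin m) (Fin m) F)}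
    (hall : ∀ B, B ∈ T → ∃ u v, B = wedge u v) :
    (T.filter fun B => ∃ l, B a l ≠ 0).card < Fintype.card F ^ (2 * m - 3) := by
  classical
  have hq : 1 ≤ Fintype.card F := Fintype.card_pos
  set A := T.filter fun B => ∃ l, B a l ≠ 0 with hA
  let row : Matrix (Fin m) (Fin m) F → ({x : Fin m // x ≠ a} → F) := fun B x => B a x.1
  have hfib : ∀ r ∈ A.image row, (A.filter fun B => row B = r).card ≤ Fintype.card F ^ (m - 2) := by
    intro r hr
    obtain ⟨B₀, hB₀, rfl⟩ := Finset.mem_image.1 hr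
    obtain ⟨hB₀T, l, hl⟩ := Finset.mem_filter.1 hB₀
    obtain ⟨u₀, v₀, rfl⟩ := hall B₀ hB₀T
    have hla : l ≠ a := fun e => hl (by rw [e, wedge_apply]; ring)
    let f : Matrix (Fin m) (Fin m) F → ({x : Fin m // x ≠ a ∧ x ≠ l} → F) := fun B x => B l x.1
    refine (Finset.card_le_card_of_injOn f (fun B _ => Finset.mem_univ _) ?_).trans (le_of_eq ?_)
    · intro B hB B' hB' e
      obtain ⟨hB1, hB2⟩ := Finset.mem_filter.1 hB
      obtain ⟨hB1', hB2'⟩ := Finset.mem_filter.1 hB'
      obtain ⟨u, v, rfl⟩ := hall B (Finset.mem_filter.1 hB1).1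
      obtain ⟨u', v', rfl⟩ := hall B' (Finset.mem_filter.1 hB1').1
      have hrow : ∀ x, wedge u v a x = wedge u' v' a x := fun x => by
        by_cases hx : x = a
        · subst hx; simp [wedge_apply, mul_comm]
        · exact congrFun (hB2.trans hB2'.symm) ⟨x, hx⟩
      have hne : wedge u v a l ≠ 0 := by
        rw [show wedge u v a l = wedge u₀ v₀ a l from congrFun hB2 ⟨l, hla⟩]; exact hl
      have hrowl : ∀ x, wedge u v l x = wedge u' v' l x := fun x => by
        by_cases hx : x = a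
        · subst hx
          have := hrow l
          simp only [wedge_apply] at this ⊢
          linear_combination -this
        by_cases hxl : x = l
        · subst hxl; simp [wedge_apply, mul_comm]
        · exact congrFun e ⟨x, hx, hxl⟩
      ext x y
      rw [wedge_plucker u v hne, wedge_plucker u' v' (hrow l ▸ hne), hrow, hrow, hrow, hrowl, hrowl]
    · rw [Finset.card_univ, Fintype.card_fun, card_compl_pair a l (Ne.symm hla)]
  have himg : (A.image row).card < Fintype.card F ^ (m - 1) := by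
    have hsub : A.image row ⊆ Finset.univ.erase 0 := by
      intro r hr
      obtain ⟨B, hB, rfl⟩ := Finset.mem_image.1 hr
      obtain ⟨hBT, l, hl⟩ := Finset.mem_filter.1 hB
      obtain ⟨u, v, rfl⟩ := hall B hBT
      have hla : l ≠ a := fun e => hl (by rw [e, wedge_apply]; ring)
      exact Finset.mem_erase.2 ⟨fun e => hl (congrFun e ⟨l, hla⟩), Finset.mem_univ _⟩
    refine lt_of_le_of_lt (Finset.card_le_card hsub) ?_
    rw [Finset.card_erase_of_mem (Finset.mem_univ _), Finset.card_univ, Fintype.card_fun,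
      show Fintype.card {x : Fin m // x ≠ a} = m - 1 by simp [Fintype.card_subtype_compl]]
    exact Nat.sub_lt (pow_pos hq _) Nat.one_pos
  calc A.card ≤ Fintype.card F ^ (m - 2) * (A.image row).card := Finset.card_le_mul_card_image A _ hfib
    _ < Fintype.card F ^ (m - 2) * Fintype.card F ^ (m - 1) := by
        exact Nat.mul_lt_mul_of_pos_left himg (pow_pos hq _)
    _ = Fintype.card F ^ (2 * m - 3) := by rw [← pow_add]; congr 1; omega

end CfsgLib.Classical.OPlus
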