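/-
The spectral decomposition under the Siegel radical.
-/
import Cfsg.Agent.Lib.Classical.OmegaPlusDeg.Elems
import Cfsg.Agent.Lib.Classical.WeilOmega.Heis
import Cfsg.Agent.Lib.Classical.WeilSU.Bound

set_option autoImplicit false

namespace CfsgLib.Classical.OPlus

open Matrix Module CfsgLib.LinDeg CfsgLib.Classical.WeilOmega CfsgLib.Classical.WeilSU

variable {F : Type*} [Field F] {m : ℕ}

/-- The pairing of two matrices. -/
def pr (M B : Matrix (Fin m) (Fin m) F) : F := ∑ i, ∑ j, M i j * B i j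

theorem dot_unmat (M B : Matrix (Fin m) (Fin m) F) : unmat M ⬝ᵥ unmat B = pr M B := by
  simp only [pr, dotProduct, unmat]
  rw [← Fintype.sum_prod_type']
  exact Fintype.sum_equiv finProdFinEquiv.symm _ _ fun k => rfl

theorem pr_add (M M' B : Matrix (Fin m) (Fin m) F) : pr (M + M') B = pr M B + pr M' B := by
  simp only [pr, Matrix.add_apply, add_mul, Finset.sum_add_distrib]

theorem pr_single (i j : Fin m) (c : F) (B : Matrix (Fin m) (Fin m) F) : pr (single i j c) B = c * B i j := by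
  simp [pr, single_apply, ite_and, ite_mul, Finset.sum_ite_eq']

variable [Fintype F] (hm : 3 ≤ m) (ψ : AddChar F ℂ) {V : Type*} [AddCommGroup V] [Module ℂ V]
  (ρ : Representation ℂ (Om F m) V)

/-- The action of the radical. -/
def tauB (v : Fin (m * m) → F) : Module.End ℂ V := ρ (el hm (mat v))

/-- The eigenprojection of a character of the radical. -/
noncomputable def eB (B : Matrix (Fin m) (Fin m) F) : Module.End ℂ V := eigProj ψ (tauB hm ρ) (unmat B)

theorem tauB_add (u v : Fin (m * m) → F) : tauB hm ρ (u + v) = tauB hm ρ u * tauB hm ρ v := by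
  rw [tauB, tauB, tauB, ← map_mul, el_mul]
  rfl

theorem tauB_zero : tauB hm ρ 0 = 1 := by
  rw [tauB, show mat (0 : Fin (m * m) → F) = 0 from rfl, el_zero, map_one]

omit [Fintype F] in
theorem qne [Fintype F] : (Fintype.card F : ℂ) ≠ 0 := by exact_mod_cast Fintype.card_ne_zero

theorem el_mul_eB (M B : Matrix (Fin m) (Fin m) F) :
    ρ (el hm M) * eB hm ψ ρ B = ψ (pr M B) • eB hm ψ ρ B := by
  have h := mul_eigProj ψ (tauB hm ρ) (tauB_add hm ρ) (unmat M) (unmat B)
  rwa [dot_unmat, tauB, mat_unmat] at h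

theorem lev_mul_eB {g : GL (Fin m) F} (hg : leI g ∈ Cfsg.Omega F (Cfsg.quadFormPlus m F))
    (B : Matrix (Fin m) (Fin m) F) :
    ρ (⟨leI g, hg⟩ : Om F m) * eB hm ψ ρ (g.1ᵀ * B * g.1) = eB hm ψ ρ B * ρ ⟨leI g, hg⟩ := by
  refine mul_eigProj_of_conj ψ _ (f := fun v => unmat (g.1 * mat v * g.1ᵀ)) ?_ (fun v => ?_) fun v => ?_
  · refine Finite.injective_iff_bijective.1 fun u v h => ?_
    have h1 := congrArg (fun X => (g⁻¹).1 * mat X * (g⁻¹).1ᵀ) h
    have e : ∀ X : Matrix (Fin m) (Fin m) F, (g⁻¹).1 * (g.1 * X * g.1ᵀ) * (g⁻¹).1ᵀ = X := fun X => by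
      rw [← Matrix.mul_assoc, ← Matrix.mul_assoc, Matrix.mul_assoc _ g.1ᵀ, ← transpose_mul, ← Units.val_mul,
        inv_mul_cancel, Units.val_one, transpose_one, Matrix.mul_one, Matrix.one_mul]
    simp only [mat_unmat, e] at h1
    rw [← unmat_mat u, ← unmat_mat v, h1]
  · simp only [tauB, mat_unmat]
    rw [← map_mul, ← map_mul]
    congr 1
    exact Subtype.ext (leI_mul_elI g (mat v))
  · conv_rhs => rw [← unmat_mat v]
    rw [dot_unmat, dot_unmat]
    have key : ∀ P Q : Matrix (Fin m) (Fin m) F, pr P Q = (Pᵀ * Q).trace := fun P Q => by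
      simp only [pr, Matrix.trace, Matrix.diag_apply, Matrix.mul_apply, transpose_apply]
      rw [Finset.sum_comm]
    rw [key, key, transpose_mul, transpose_mul, transpose_transpose, Matrix.mul_assoc g.1,
      Matrix.trace_mul_comm g.1]
    simp only [Matrix.mul_assoc]

theorem rank_eB_congr [FiniteDimensional ℂ V] {g : GL (Fin m) F}
    (hg : leI g ∈ Cfsg.Omega F (Cfsg.quadFormPlus m F)) (B : Matrix (Fin m) (Fin m) F) :
    finrank ℂ (LinearMap.range (eB hm ψ ρ (g.1ᵀ * B * g.1))) = finrank ℂ (LinearMap.range (eB hm ψ ρ B)) :=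
  finrank_range_of_conj ((Group.isUnit (⟨leI g, hg⟩ : Om F m)).map ρ) (lev_mul_eB hm ψ ρ hg B)

theorem eB_congr_ne {g : GL (Fin m) F} (hg : leI g ∈ Cfsg.Omega F (Cfsg.quadFormPlus m F))
    {B : Matrix (Fin m) (Fin m) F} (h : eB hm ψ ρ B ≠ 0) : eB hm ψ ρ (g.1ᵀ * B * g.1) ≠ 0 := by
  intro e
  have h1 := lev_mul_eB hm ψ ρ hg B
  rw [e, mul_zero] at h1
  exact h (((Group.isUnit (⟨leI g, hg⟩ : Om F m)).map ρ).mul_left_eq_zero.1 h1.symm)

variable (hψ : ψ.IsPrimitive)
include hψ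

theorem isAlt_of_eB {B : Matrix (Fin m) (Fin m) F} (h : eB hm ψ ρ B ≠ 0) : IsAlt B := by
  have key : ∀ M : Matrix (Fin m) (Fin m) F, M - Mᵀ = 0 → ψ (pr M B) = 1 := by
    intro M hM
    have h1 := el_mul_eB hm ψ ρ M B
    rw [el_congr hm (M' := 0) (by rw [hM]; simp), el_zero, map_one, one_mul] at h1
    refine smul_left_injective ℂ h ?_
    simp only [one_smul]
    exact h1.symm
  refine ⟨fun i j => ?_, fun i => ?_⟩
  · rw [eq_neg_iff_add_eq_zero]
    by_contra hne
    apply hψ hne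
    ext c
    have h1 := key (single i j c + single j i c) (by rw [transpose_add, transpose_single, transpose_single]; abel)
    rw [pr_add, pr_single, pr_single] at h1
    show ψ ((B j i + B i j) * c) = (1 : AddChar F ℂ) c
    rw [AddChar.one_apply, ← h1]
    congr 1; ring
  · by_contra hne
    apply hψ hne
    ext c
    have h1 := key (single i i c) (by rw [transpose_single]; simp)
    rw [pr_single, mul_comm] at h1
    show ψ (B i i * c) = (1 : AddChar F ℂ) c
    rw [AddChar.one_apply, h1]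

open _root_.Classical in
theorem eB_mul (B B' : Matrix (Fin m) (Fin m) F) :
    eB hm ψ ρ B * eB hm ψ ρ B' = if B = B' then eB hm ψ ρ B' else 0 := by
  rw [eB, eB, eigProj_mul ψ hψ _ (tauB_add hm ρ) qne]
  by_cases h : B = B'
  · simp [h]
  · rw [if_neg h, if_neg fun e => h (by rw [← mat_unmat B, e, mat_unmat])]

theorem sum_eB : ∑ B : Matrix (Fin m) (Fin m) F, eB hm ψ ρ B = 1 := by
  rw [← sum_eigProj ψ hψ (tauB hm ρ) (tauB_zero hm ρ) qne]
  exact Fintype.sum_bijective unmat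
    ⟨fun x y h => by rw [← mat_unmat x, h, mat_unmat], fun v => ⟨mat v, unmat_mat v⟩⟩ _ _ fun B => rfl

variable [FiniteDimensional ℂ V]

open _root_.Classical in
/-- The rank of `V` in terms of the occurring characters. -/
theorem finrank_eq_occ : finrank ℂ V = finrank ℂ (LinearMap.range (eB hm ψ ρ 0)) +
    ∑ B ∈ Finset.univ.filter (fun B => B ≠ 0 ∧ eB hm ψ ρ B ≠ 0), finrank ℂ (LinearMap.range (eB hm ψ ρ B)) := by
  rw [finrank_eq_sum_range (fun B : Matrix (Fin m) (Fin m) F => eB hm ψ ρ B) (eB_mul hm ψ ρ hψ) (sum_eB hm ψ ρ hψ),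
    ← Finset.add_sum_erase _ _ (Finset.mem_univ 0)]
  congr 1
  refine (Finset.sum_subset (fun B hB => Finset.mem_erase.2 ⟨(Finset.mem_filter.1 hB).2.1, Finset.mem_univ _⟩)
    fun B hB hB' => ?_).symm
  have hz : eB hm ψ ρ B = 0 := by
    by_contra h
    exact hB' (Finset.mem_filter.2 ⟨Finset.mem_univ _, (Finset.mem_erase.1 hB).1, h⟩)
  rw [hz, LinearMap.range_zero, finrank_bot]

/-- The trace of an element as a sum over the characters. -/
theorem trace_eq_sum (T : Module.End ℂ V) :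
    LinearMap.trace ℂ V T = ∑ B : Matrix (Fin m) (Fin m) F, LinearMap.trace ℂ V (T * eB hm ψ ρ B) := by
  rw [← map_sum, ← Finset.mul_sum, sum_eB hm ψ ρ hψ, mul_one]

theorem trace_eB (B : Matrix (Fin m) (Fin m) F) :
    LinearMap.trace ℂ V (eB hm ψ ρ B) = (finrank ℂ (LinearMap.range (eB hm ψ ρ B)) : ℂ) := by
  classical
  have hp : LinearMap.IsProj (LinearMap.range (eB hm ψ ρ B)) (eB hm ψ ρ B) :=
    ⟨fun x => ⟨x, rfl⟩, fun x hx => by
      obtain ⟨z, rfl⟩ := hx
      rw [← Module.End.mul_apply, eB_mul hm ψ ρ hψ, if_pos rfl]⟩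
  exact hp.trace

end CfsgLib.Classical.OPlus
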