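/-
Transvections act trivially on the lines of the characters they fix.
-/
import Cfsg.Agent.Lib.Classical.OmegaPlusDeg.Radical
import Cfsg.Agent.Lib.Classical.OmegaPlusDeg.Orbit

set_option autoImplicit false

namespace CfsgLib.Classical.OPlus

open Matrix Module CfsgLib.LinDeg CfsgLib.Classical.WeilOmega

variable {F : Type*} [Field F] {m : ℕ}

theorem exists_unit_sq_ne [Fintype F] (h3 : 3 < Fintype.card F) : ∃ s : Fˣ, s * s ≠ 1 ∧ s ≠ 1 := by
  classical
  by_contra h
  have h1 : (Finset.univ : Finset Fˣ) ⊆ {1, -1} := fun x _ => by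
    by_cases hx : x * x = 1
    · rcases mul_self_eq_one_iff.1 (show (x : F) * x = 1 by rw [← Units.val_mul, hx, Units.val_one]) with e | e
      · simp [Units.ext (show (x : F) = ((1 : Fˣ) : F) by simpa using e)]
      · simp [show x = -1 from Units.ext (by simpa using e)]
    · push Not at h
      simp [h x hx]
  have h2 := (Finset.card_le_card h1).trans Finset.card_le_two
  rw [Finset.card_univ, Fintype.card_units] at h2
  omega

theorem trv_apply {a b : Fin m} (hab : a ≠ b) (c : F) (x y : Fin m) :
    (trv hab c).1 x y = (if x = y then 1 else 0) + if a = x ∧ b = y then c else 0 := by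
  simp [trv, transvection, Matrix.one_apply, single_apply]

theorem trv_congr_apply {a b : Fin m} (hab : a ≠ b) (c : F) (B : Matrix (Fin m) (Fin m) F) (x y : Fin m) :
    ((trv hab c).1ᵀ * B * (trv hab c).1) x y =
      B x y + (if b = x then c * B a y else 0) + (if b = y then B x a * c else 0) +
        if b = x ∧ b = y then c * B a a * c else 0 := by
  rw [show trv hab c = trow a (Pi.single b c) (by simp [hab]) from Subtype.ext (by
    ext p q; rw [trv_apply]; simp [trow, Matrix.one_apply, vecMulVec_apply, Pi.single_apply, ite_and, eq_comm]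
    split_ifs <;> simp_all),
    trow_mul_apply]
  simp [Pi.single_apply, ite_and, eq_comm]
  split_ifs <;> ring

theorem trv_mul_trv {a b : Fin m} (hab : a ≠ b) (c d : F) : trv hab c * trv hab d = trv hab (c + d) := by
  refine Subtype.ext ?_
  show transvection a b c * transvection a b d = transvection a b (c + d)
  exact transvection_mul_transvection_same _ _ hab c d

/-- An element fixing a character and rescaling a transvection. -/
theorem exists_rescale [Fintype F] (hm : 4 ≤ m) (h3 : 3 < Fintype.card F) {a b : Fin m} (hab : a ≠ b) {u v : Fin m → F}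
    (hrow : ∀ l, l ≠ b → wedge u v a l = 0) :
    ∃ (h : SpecialLinearGroup (Fin m) F) (γ : F), γ ≠ 1 ∧ h.1ᵀ * wedge u v * h.1 = wedge u v ∧
      ∀ c : F, h * trv hab c = trv hab (γ * c) * h := by
  classical
  obtain ⟨s, hs2, hs1⟩ := exists_unit_sq_ne h3
  have hs2' : (s : F) * s ≠ 1 := fun e => hs2 (Units.ext (by simpa using e))
  have hs1' : (s : F) ≠ 1 := fun e => hs1 (Units.ext (by simpa using e))
  set B := wedge u v with hB
  have halt : ∀ x y, B y x = -B x y := fun x y => by rw [hB, wedge_apply, wedge_apply]; ring
  by_cases hab0 : B a b = 0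
  · -- the row is zero
    have hra : ∀ l, B a l = 0 := fun l => by
      by_cases hl : l = b
      · rw [hl, hab0]
      · exact hrow l hl
    let L : (Fin m → F) →ₗ[F] (F × F × F) :=
      (Fintype.linearCombination F u).prod ((Fintype.linearCombination F v).prod (LinearMap.proj a))
    obtain ⟨z, hz, hz0⟩ : ∃ z ∈ LinearMap.ker L, z ≠ 0 := by
      refine (Submodule.ne_bot_iff _).1 fun e => ?_
      have h1 := LinearMap.finrank_le_finrank_of_injective (LinearMap.ker_eq_bot.1 e)
      simp at h1
      omega
    obtain ⟨hzu, hzv, hza⟩ : z ⬝ᵥ u = 0 ∧ z ⬝ᵥ v = 0 ∧ z a = 0 := by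
      rw [LinearMap.mem_ker] at hz
      exact ⟨by simpa [L, Fintype.linearCombination_apply, dotProduct] using congrArg Prod.fst hz,
        by simpa [L, Fintype.linearCombination_apply, dotProduct] using congrArg (fun p => p.2.1) hz,
        congrArg (fun p => p.2.2) hz⟩
    obtain ⟨l, hzl, hlb⟩ : ∃ l, z l ≠ 0 ∧ (z b ≠ 0 → l = b) := by
      by_cases hb : z b = 0
      · obtain ⟨l, hl⟩ := Function.ne_iff.1 hz0
        exact ⟨l, hl, fun h => absurd hb h⟩
      · exact ⟨b, hb, fun _ => rfl⟩
    have hla : l ≠ a := fun e => hzl (e ▸ hza)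
    let φ : Fin m → F := Pi.single l (z l)⁻¹
    let k : F := (s : F)⁻¹ - 1
    let d : Fin m → F := Function.update 1 a (s : F)
    let M : Matrix (Fin m) (Fin m) F := diagonal d * (1 + vecMulVec (k • z) φ)
    have hdet : M.det = 1 := by
      rw [det_mul, det_diagonal, Finset.prod_update_of_mem (Finset.mem_univ _),
        show vecMulVec (k • z) φ = replicateCol Unit (k • z) * replicateRow Unit φ from vecMulVec_eq Unit _ _,
        det_one_add_replicateCol_mul_replicateRow]
      simp [φ, k, hzl, Pi.single_apply]
    have hBM : B * M = B := by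
      have h1 : B * diagonal d = B := by
        ext x y
        rw [mul_diagonal]
        by_cases hy : y = a
        · subst hy; rw [halt y x, hra]; simp
        · simp [d, hy]
      have h2 : B *ᵥ z = 0 := by
        rw [hB, wedge, sub_mulVec, vecMulVec_mulVec, vecMulVec_mulVec, dotProduct_comm, hzv,
          dotProduct_comm, hzu]
        simp
      rw [← Matrix.mul_assoc, h1, Matrix.mul_add, Matrix.mul_one, mul_vecMulVec, mulVec_smul, h2]
      simp
    refine ⟨⟨M, hdet⟩, if z b = 0 then (s : F) else s * s, ?_, ?_, fun c => Subtype.ext ?_⟩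
    · split_ifs <;> assumption
    · have h1 : Mᵀ * B = B := by
        have hBt : Bᵀ = -B := by ext x y; exact halt x y
        have := congrArg Matrix.transpose hBM
        rw [transpose_mul, hBt, Matrix.mul_neg, neg_inj] at this
        exact this
      show Mᵀ * B * M = B
      rw [h1, hBM]
    · have hMa : ∀ x, M x a = if x = a then (s : F) else 0 := fun x => by
        simp only [M, diagonal_mul, Matrix.add_apply, vecMulVec_apply]
        by_cases hx : x = a
        · subst hx; simp [d, φ, Ne.symm hla]
        · simp [d, φ, hx, Ne.symm hla]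
      have hMb : ∀ y, M b y = if y = b then (if z b = 0 then 1 else (s : F)⁻¹) else 0 := fun y => by
        simp only [M, diagonal_mul, Matrix.add_apply, vecMulVec_apply]
        by_cases hb : z b = 0
        · simp [d, Ne.symm hab, hb, Matrix.one_apply, eq_comm]
        · have := hlb hb
          subst this
          by_cases hy : y = l
          · subst hy; simp [d, φ, k, Ne.symm hab, hb]
          · simp [d, φ, Ne.symm hab, hy, Ne.symm hy]
      show M * transvection a b c = transvection a b _ * M
      ext x y
      simp only [transvection, Matrix.mul_add, Matrix.add_mul, Matrix.mul_one, Matrix.one_mul, Matrix.add_apply]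
      congr 1
      by_cases hy : y = b
      · subst hy
        rw [mul_single_apply_same, hMa]
        by_cases hx : x = a
        · subst hx
          rw [single_mul_apply_same, hMb]
          simp only [if_pos rfl]
          split_ifs <;> (try simp) <;> (try field_simp) <;> (try ring)
        · rw [single_mul_apply_of_ne _ _ _ _ _ hx]; simp [hx]
      · rw [mul_single_apply_of_ne _ _ _ _ _ hy]
        by_cases hx : x = a
        · subst hx; rw [single_mul_apply_same, hMb]; simp [hy]
        · rw [single_mul_apply_of_ne _ _ _ _ _ hx]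
  · -- the entry is not zero
    let d : Fin m → F := fun x => if x = a ∨ x = b then 0 else (B a b)⁻¹ * B b x
    have hda : d a = 0 := by simp [d]
    have hdb : d b = 0 := by simp [d]
    set G := trow a d hda with hG
    let D : Fin m → F := Function.update (1 : Fin m → F) a (s : F) * Function.update (1 : Fin m → F) b ((s : F)⁻¹)
    let h₀ : SpecialLinearGroup (Fin m) F := ⟨diagonal D, by
      rw [det_diagonal]
      simp only [D, Pi.mul_apply, Finset.prod_mul_distrib, Finset.prod_update_of_mem (Finset.mem_univ _)]
      simp⟩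
    obtain ⟨B', hB'⟩ : ∃ B', B' = G.1ᵀ * B * G.1 := ⟨_, rfl⟩
    have hB'val : ∀ x y, B' x y = if (x = a ∧ y = b) ∨ (x = b ∧ y = a) then B x y else 0 := by
      intro x y
      have hP : ∀ p q, B p q = (B a b)⁻¹ * (B a p * B b q - B b p * B a q) := fun p q => wedge_plucker u v hab0 p q
      have haa : B a a = 0 := by rw [hB, wedge_apply]; ring
      have hbb : B b b = 0 := by rw [hB, wedge_apply]; ring
      rw [hB', trow_mul_apply, haa, halt a x]
      by_cases hxa : x = a
      · subst hxa
        by_cases hyb : y = b
        · subst hyb; simp [hda, hdb, haa]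
        · simp [hyb, hda, haa, hrow y hyb, hab]
      by_cases hxb : x = b
      · subst hxb
        by_cases hya : y = a
        · subst hya; simp [hdb, hda, hbb]
        · by_cases hyb : y = x
          · subst hyb; simp [hdb, hbb, hxa]
          · simp [hdb, hya, hyb, d, hxa]
            field_simp
            ring
      rw [hrow x hxb, hP x y, hrow x hxb]
      by_cases hyb : y = b
      · subst hyb
        simp [hdb, hxa, hxb, d, hbb]
        field_simp
        ring
      · simp [hrow y hyb, hxa, hxb]
    refine ⟨G * h₀ * G⁻¹, s * s, hs2', ?_, fun c => ?_⟩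
    · have h0 : h₀.1ᵀ * B' * h₀.1 = B' := by
        ext x y
        show ((diagonal D)ᵀ * B' * diagonal D) x y = _
        rw [diag_congr_apply, hB'val]
        split_ifs with hxy
        · rcases hxy with ⟨rfl, rfl⟩ | ⟨rfl, rfl⟩ <;> simp [D, hab, Ne.symm hab] <;> field_simp
        · simp
      have e1 : (G⁻¹ : SpecialLinearGroup (Fin m) F).1ᵀ * B' * (G⁻¹ : SpecialLinearGroup (Fin m) F).1 = B := by
        rw [hB', ← Matrix.mul_assoc, ← Matrix.mul_assoc, ← transpose_mul, ← sl_mul_val, mul_inv_cancel, sl_one_val,
          transpose_one, Matrix.one_mul, Matrix.mul_assoc, ← sl_mul_val, mul_inv_cancel, sl_one_val, Matrix.mul_one]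
      calc (G * h₀ * G⁻¹ : SpecialLinearGroup (Fin m) F).1ᵀ * B * (G * h₀ * G⁻¹ : SpecialLinearGroup (Fin m) F).1
          = (G⁻¹ : SpecialLinearGroup (Fin m) F).1ᵀ * (h₀.1ᵀ * (G.1ᵀ * B * G.1) * h₀.1) *
              (G⁻¹ : SpecialLinearGroup (Fin m) F).1 := by simp only [sl_mul_val, transpose_mul, Matrix.mul_assoc]
        _ = B := by rw [← hB', h0, e1]
    · have hGt : ∀ e : F, G * trv hab e = trv hab e * G := fun e => by
        refine Subtype.ext ?_
        show (1 + vecMulVec (Pi.single a 1) d) * transvection a b e = transvection a b e * (1 + vecMulVec (Pi.single a 1) d)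
        rw [transvection]
        have z1 : vecMulVec (Pi.single a (1 : F) : Fin m → F) d * single a b e = 0 := by
          rw [vecMulVec_mul]; ext x y; simp [vecMulVec_apply, vecMul, dotProduct, single_apply, hda, ite_and]
        have z2 : single a b e * vecMulVec (Pi.single a (1 : F) : Fin m → F) d = 0 := by
          rw [mul_vecMulVec, single_mulVec]; ext x y; simp [vecMulVec_apply, Pi.single_apply, Ne.symm hab, Function.update_apply]
        simp only [Matrix.mul_add, Matrix.add_mul, Matrix.mul_one, Matrix.one_mul, z1, z2]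
        abel
      have h0t : h₀ * trv hab c = trv hab ((s : F) * s * c) * h₀ := by
        refine Subtype.ext ?_
        show diagonal D * transvection a b c = transvection a b ((s : F) * s * c) * diagonal D
        ext x y
        rw [diagonal_mul, mul_diagonal]
        simp only [transvection, Matrix.add_apply, Matrix.one_apply, single_apply]
        by_cases hxy : a = x ∧ b = y
        · obtain ⟨rfl, rfl⟩ := hxy
          simp [D, hab, Ne.symm hab]
          field_simp
        · by_cases e : x = y
          · subst e; simp [hxy, mul_comm]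
          · simp [hxy, e]
      calc G * h₀ * G⁻¹ * trv hab c = G * h₀ * (G⁻¹ * trv hab c) := by group
        _ = G * h₀ * (trv hab c * G⁻¹) := by
            rw [((show Commute G (trv hab c) from hGt c).inv_left).eq]
        _ = G * (h₀ * trv hab c) * G⁻¹ := by group
        _ = trv hab ((s : F) * s * c) * (G * h₀ * G⁻¹) := by rw [h0t, ← mul_assoc G, hGt]; group

variable [Fintype F] (hm : 4 ≤ m) (ψ : AddChar F ℂ) (hψ : ψ.IsPrimitive) {V : Type*} [AddCommGroup V] [Module ℂ V]
  [FiniteDimensional ℂ V] (ρ : Representation ℂ (Om F m) V)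
include hψ

/-- A transvection fixing a character with a line acts trivially on it. -/
theorem trv_mul_eB (h3 : 3 < Fintype.card F) {a b : Fin m} (hab : a ≠ b) {u v : Fin m → F}
    (hrow : ∀ l, l ≠ b → wedge u v a l = 0)
    (h1 : finrank ℂ (LinearMap.range (eB (by omega : 3 ≤ m) ψ ρ (wedge u v))) = 1) (c : F) :
    ρ (le (by omega : 3 ≤ m) (trv hab c)) * eB (by omega : 3 ≤ m) ψ ρ (wedge u v) =
      eB (by omega : 3 ≤ m) ψ ρ (wedge u v) := by
  classical
  have hm3 : 3 ≤ m := by omega
  set E := eB hm3 ψ ρ (wedge u v) with hE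
  have hEE : E * E = E := by rw [hE, eB_mul hm3 ψ ρ hψ, if_pos rfl]
  have hE0 : E ≠ 0 := fun e => by rw [e, LinearMap.range_zero, finrank_bot] at h1; omega
  obtain ⟨h, γ, hγ, hfix, hconj⟩ := exists_rescale hm h3 hab hrow
  have hcomm : ∀ g : SpecialLinearGroup (Fin m) F, g.1ᵀ * wedge u v * g.1 = wedge u v →
      ρ (le hm3 g) * E = E * ρ (le hm3 g) := fun g hg => by
    have := lev_mul_eB hm3 ψ ρ (g := SpecialLinearGroup.toGL g) (leI_sl_mem hm3 g) (wedge u v)
    rwa [show (SpecialLinearGroup.toGL g).1ᵀ * wedge u v * (SpecialLinearGroup.toGL g).1 = wedge u v from hg] at this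
  have hfixt : ∀ e : F, (trv hab e).1ᵀ * wedge u v * (trv hab e).1 = wedge u v := fun e => by
    have haa : wedge u v a a = 0 := by rw [wedge_apply]; ring
    have halt : ∀ x, wedge u v x a = -wedge u v a x := fun x => by rw [wedge_apply, wedge_apply]; ring
    ext x y
    rw [trv_congr_apply, haa]
    by_cases hxb : b = x
    · subst hxb
      by_cases hyb : b = y
      · subst hyb; simp [halt]; ring
      · simp [hyb, hrow y (Ne.symm hyb)]
    · by_cases hyb : b = y
      · subst hyb; simp [hxb, halt, hrow x (Ne.symm hxb)]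
      · simp [hxb, hyb]
  set μ : F → ℂ := fun e => LinearMap.trace ℂ V (ρ (le hm3 (trv hab e)) * E) with hμ
  have hμE : ∀ e, ρ (le hm3 (trv hab e)) * E = μ e • E := fun e =>
    mul_eq_trace_smul hEE h1 (hcomm _ (hfixt e))
  have hinj := smul_left_injective ℂ hE0
  have hadd : ∀ e e', μ (e + e') = μ e * μ e' := fun e e' => hinj (by
    simp only
    rw [← hμE, ← trv_mul_trv, map_mul, map_mul, mul_assoc, hμE e', mul_smul_comm, hμE e, smul_smul, mul_comm])
  have hne : ∀ e, μ e ≠ 0 := fun e h0 => hE0 (by
    have := hμE e
    rw [h0, zero_smul] at this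
    exact ((Group.isUnit (le hm3 (trv hab e))).map ρ).mul_right_eq_zero.1 this)
  have hsc : ∀ e, μ (γ * e) = μ e := fun e => by
    have hu := (Group.isUnit (le hm3 h)).map ρ
    refine hinj (hu.mul_right_injective ?_)
    show ρ (le hm3 h) * (μ (γ * e) • E) = ρ (le hm3 h) * (μ e • E)
    conv_rhs => rw [← hμE, ← mul_assoc, ← map_mul, ← map_mul, hconj, map_mul, map_mul, mul_assoc,
      hcomm h hfix, ← mul_assoc, hμE, smul_mul_assoc, ← hcomm h hfix]
    rw [mul_smul_comm]
  have hone : μ c = 1 := by
    have hc : c = (γ * ((γ - 1)⁻¹ * c)) - (γ - 1)⁻¹ * c := by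
      field_simp [sub_ne_zero.2 hγ]
    have := hadd (γ * ((γ - 1)⁻¹ * c) - (γ - 1)⁻¹ * c) ((γ - 1)⁻¹ * c)
    rw [sub_add_cancel, hsc, ← hc] at this
    exact (mul_eq_right₀ (hne _)).1 this.symm
  rw [hμE, hone, one_smul]

end CfsgLib.Classical.OPlus
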