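/-
Long root elements of the Siegel radical and of the Levi complement are conjugate.
-/
import Cfsg.Agent.Lib.Classical.OmegaPlusDeg.Elems
import Cfsg.Agent.Lib.Classical.WeilSU.Bound

set_option autoImplicit false

namespace CfsgLib.Classical.OPlus

open Matrix CfsgLib.Classical.WeilSU CfsgLib.Perm.Trans CfsgLib.Perm.Trans.Quad

variable {F : Type*} [Field F] {m : ℕ}

/-- A transposition matrix. -/
def swapGL (i j : Fin m) : GL (Fin m) F :=
  ⟨(Equiv.swap i j).permMatrix F, (Equiv.swap i j).permMatrix F, by
    rw [← Matrix.permMatrix_mul, Equiv.swap_mul_self, Matrix.permMatrix_one], by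
    rw [← Matrix.permMatrix_mul, Equiv.swap_mul_self, Matrix.permMatrix_one]⟩

theorem leI_swap_mul_swI (i j : Fin m) :
    leI (swapGL (F := F) i j) * swI i = swI j * leI (swapGL i j) := by
  have hP : ((Equiv.swap i j).permMatrix F : Matrix (Fin m) (Fin m) F)ᵀ = (Equiv.swap i j).permMatrix F := by
    rw [Matrix.transpose_permMatrix, Equiv.swap_inv]
  have hs : (Equiv.swap i j).permMatrix F * single i i (1 : F) = single j j 1 * (Equiv.swap i j).permMatrix F := by
    ext x y
    simp [Equiv.Perm.permMatrix, PEquiv.toMatrix_toPEquiv_mul, PEquiv.mul_toMatrix_toPEquiv, single_apply,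
      Equiv.swap_apply_def]
    grind
  refine iso_ext ?_
  show fromBlocks ((Equiv.swap i j).permMatrix F) 0 0 ((Equiv.swap i j).permMatrix F)ᵀ *
      fromBlocks (1 - single i i 1) (single i i 1) (single i i 1) (1 - single i i 1) =
    fromBlocks (1 - single j j 1) (single j j 1) (single j j 1) (1 - single j j 1) *
      fromBlocks ((Equiv.swap i j).permMatrix F) 0 0 ((Equiv.swap i j).permMatrix F)ᵀ
  rw [hP, fromBlocks_multiply, fromBlocks_multiply]
  simp only [Matrix.mul_zero, Matrix.zero_mul, add_zero, zero_add, Matrix.mul_sub, Matrix.sub_mul, Matrix.mul_one,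
    Matrix.one_mul, hs, sub_zero, sub_self]

theorem swI_pair_mem (i j : Fin m) :
    swI i * swI j ∈ Cfsg.Omega F (Cfsg.quadFormPlus m F) := by
  have hinv : ∀ k : Fin m, (swI k : Iso F m)⁻¹ = swI k := fun k => inv_eq_of_mul_eq_one_right (swI_sq k)
  have h := comm_mem (swI i) (leI (swapGL (F := F) i j))
  rw [hinv, mul_assoc (swI i) (leI _), leI_swap_mul_swI, ← mul_assoc (swI i), mul_inv_cancel_right] at h
  exact h

theorem swI_pair_conj {a b k : Fin m} (hab : a ≠ b) (hak : a ≠ k) (hbk : b ≠ k) :
    swI b * swI k * elI (single a b (1 : F)) =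
      leI (SpecialLinearGroup.toGL (trv hab 1)) * (swI b * swI k) := by
  refine iso_ext ?_
  show (fromBlocks _ _ _ _ * fromBlocks _ _ _ _) * fromBlocks _ _ _ _ =
    fromBlocks _ _ _ _ * (fromBlocks _ _ _ _ * fromBlocks _ _ _ _)
  rw [← map_inv, show (trv hab (1 : F))⁻¹ = trv hab (-1) from inv_eq_of_mul_eq_one_right (Subtype.ext (by
    show transvection a b (1 : F) * transvection a b (-1) = 1
    rw [transvection_mul_transvection_same _ _ hab, add_neg_cancel, transvection_zero]))]
  simp only [trv_val, transpose_single, fromBlocks_multiply]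
  congr 1 <;>
  · ext x y
    simp [transvection, Matrix.mul_add, Matrix.add_mul, Matrix.mul_sub, Matrix.sub_mul, transpose_add,
      transpose_single, single_apply, Matrix.one_apply, hab, hak, hbk, Ne.symm hab, Ne.symm hak, Ne.symm hbk]
    try (split_ifs <;> simp_all)
    all_goals ring

theorem isConj_root (hm : 3 ≤ m) {a b : Fin m} (hab : a ≠ b) :
    IsConj (el hm (single a b (1 : F))) (le hm (trv hab 1)) := by
  obtain ⟨k, hak, hbk⟩ := exists_third hm a b
  refine isConj_iff.2 ⟨⟨swI b * swI k, swI_pair_mem b k⟩, ?_⟩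
  rw [mul_inv_eq_iff_eq_mul]
  exact Subtype.ext (swI_pair_conj hab hak hbk)

variable [Fintype F]

/-- A representation killing a root element of the radical is trivial. -/
theorem trivial_of_root (hm : 3 ≤ m) {V : Type*} [AddCommGroup V] [Module ℂ V] (ρ : Representation ℂ (Om F m) V)
    {a b : Fin m} (hab : a ≠ b) (h : ρ (el hm (single a b (1 : F))) = 1) (g : Om F m) : ρ g = 1 := by
  classical
  have h5 : 5 ≤ Fintype.card (Idx m) := by simp; omega
  haveI hs : IsSimpleGroup (Cfsg.POmega F (Cfsg.quadFormPlus m F)) := pomega_isSimple quadFormPlus_nd h5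
  obtain ⟨k, hak, hbk⟩ := exists_third hm a b
  set y : Om F m := el hm (single a b (1 : F)) with hy
  have hnc : y ∉ Subgroup.center (Om F m) := by
    intro hc
    have h1 := congrArg Subtype.val (Subgroup.mem_center_iff.1 hc (le hm (trv (Ne.symm hbk) 1)))
    rw [hy] at h1
    have h2 := h1
    change leI _ * elI _ = elI _ * leI _ at h2
    rw [leI_mul_elI] at h2
    have h3 := congrArg (fun v : Iso F m => v.1.1) (mul_right_cancel h2)
    simp only [elI_val, trv_val] at h3
    have h4 := congrFun (congrFun h3 (.inl a)) (.inr k)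
    simp [transvection, Matrix.mul_add, Matrix.add_mul, transpose_add, transpose_single, single_apply,
      hab, hak, hbk, Ne.symm hab, Ne.symm hak, Ne.symm hbk, fromBlocks_apply₁₂] at h4
  have htop : ρ.ker = ⊤ :=
    eq_top_of_normal (omega_perfect quadFormPlus_nd h5) (show y ∈ ρ.ker from MonoidHom.mem_ker.2 h) hnc
  exact MonoidHom.mem_ker.1 (htop ▸ Subgroup.mem_top g)

end CfsgLib.Classical.OPlus
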