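/-
The characters of the radical in a small representation.
-/
import Cfsg.Agent.Lib.Classical.OmegaPlusDeg.Scalar
import Cfsg.Agent.Lib.Classical.OmegaPlusDeg.Swap

set_option autoImplicit false

namespace CfsgLib.Classical.OPlus

open Matrix Module CfsgLib.LinDeg CfsgLib.Classical.WeilOmega

variable {F : Type*} [Field F] [Fintype F] {m : ℕ}

theorem congr_ne_zero (g : GL (Fin m) F) {B : Matrix (Fin m) (Fin m) F} (h : B ≠ 0) :
    g.1ᵀ * B * g.1 ≠ 0 := by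
  intro e
  refine h ?_
  have := congrArg (fun X => (g⁻¹).1ᵀ * X * (g⁻¹).1) e
  rw [Matrix.mul_zero, Matrix.zero_mul] at this
  rw [← this, ← Matrix.mul_assoc, ← Matrix.mul_assoc, ← transpose_mul, ← Units.val_mul, mul_inv_cancel, Units.val_one,
    transpose_one, Matrix.one_mul, Matrix.mul_assoc, ← Units.val_mul, mul_inv_cancel, Units.val_one, Matrix.mul_one]

theorem nonwedge_arith {q m k t : ℕ} (hq : 4 ≤ q) (hm : 4 ≤ m) (h1 : q ^ (2 * m - 4) * (q - 1) * (q / 2) ≤ t)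
    (h2 : t ≤ k) (hN : (k + 1) * (q ^ 2 - 1) ≤ (q ^ m - 1) * (q ^ (m - 1) + q)) : False := by
  have e1 : (q ^ m - 1) * (q ^ (m - 1) + q) ≤ q ^ (2 * m - 4) * (q ^ 3 + q) := by
    refine (Nat.mul_le_mul_right _ (Nat.sub_le _ _)).trans ?_
    rw [Nat.mul_add, Nat.mul_add, ← pow_add, ← pow_add, ← pow_succ, ← pow_succ]
    exact Nat.add_le_add (Nat.pow_le_pow_right (by omega) (by omega)) (Nat.pow_le_pow_right (by omega) (by omega))
  have h2q : 2 ≤ q / 2 := by omega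
  have e2 : q ^ 3 + q ≤ (q ^ 2 - 1) * ((q - 1) * 2) := by
    obtain ⟨s, rfl⟩ : ∃ s, q = s + 4 := ⟨q - 4, by omega⟩
    rw [show s + 4 - 1 = s + 3 by omega, show (s + 4) ^ 2 - 1 = (s + 3) * (s + 5) by
      refine Nat.sub_eq_of_eq_add ?_; ring]
    nlinarith [Nat.zero_le (s ^ 2), Nat.zero_le (s ^ 3), Nat.zero_le s]
  have e3 : (q ^ 2 - 1) * (q ^ (2 * m - 4) * ((q - 1) * 2)) ≤ (q ^ 2 - 1) * k := by
    refine Nat.mul_le_mul_left _ (le_trans ?_ (h1.trans h2))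
    rw [mul_assoc]
    exact Nat.mul_le_mul_left _ (Nat.mul_le_mul_left _ h2q)
  have e4 := Nat.mul_le_mul_left (q ^ (2 * m - 4)) e2
  have e5 : q ^ (2 * m - 4) * ((q ^ 2 - 1) * ((q - 1) * 2)) = (q ^ 2 - 1) * (q ^ (2 * m - 4) * ((q - 1) * 2)) := by
    ring
  have e6 : (q ^ 2 - 1) * k + (q ^ 2 - 1) = (k + 1) * (q ^ 2 - 1) := by ring
  have e7 : 1 ≤ q ^ 2 - 1 := by
    have := Nat.pow_le_pow_left (show 2 ≤ q by omega) 2
    omega
  omega

theorem double_arith {q m k t : ℕ} (hq : 4 ≤ q) (hm : 4 ≤ m) (h1 : 2 * t ≤ k)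
    (ht : (q ^ m - 1) * (q ^ (m - 1) - 1) ≤ (q ^ 2 - 1) * t)
    (hN : (k + 1) * (q ^ 2 - 1) ≤ (q ^ m - 1) * (q ^ (m - 1) + q)) : False := by
  have e1 := Nat.mul_le_mul_left (q ^ 2 - 1) h1
  have e2 : (q ^ 2 - 1) * k + (q ^ 2 - 1) = (k + 1) * (q ^ 2 - 1) := by ring
  have e3 : (q ^ 2 - 1) * (2 * t) = 2 * ((q ^ 2 - 1) * t) := by ring
  have e4 : (q ^ m - 1) * (q ^ (m - 1) + q) ≤ (q ^ m - 1) * (2 * (q ^ (m - 1) - 1)) := by
    refine Nat.mul_le_mul_left _ ?_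
    have h4 : q ^ 3 ≤ q ^ (m - 1) := Nat.pow_le_pow_right (by omega) (by omega)
    have h5 : 4 * q ≤ q ^ 3 := by
      have := Nat.mul_le_mul hq hq
      rw [pow_succ, pow_two]
      exact Nat.mul_le_mul_right _ (by omega)
    omega
  have e5 : (q ^ m - 1) * (2 * (q ^ (m - 1) - 1)) = 2 * ((q ^ m - 1) * (q ^ (m - 1) - 1)) := by ring
  have e7 : 1 ≤ q ^ 2 - 1 := by
    have := Nat.pow_le_pow_left (show 2 ≤ q by omega) 2
    omega
  omega

variable (hm : 4 ≤ m) (ψ : AddChar F ℂ) (hψ : ψ.IsPrimitive) {V : Type*} [AddCommGroup V] [Module ℂ V]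
  [FiniteDimensional ℂ V] (ρ : Representation ℂ (Om F m) V)

include hψ

open _root_.Classical in
theorem trace_split (X : Module.End ℂ V) {T : Finset (Matrix (Fin m) (Fin m) F)}
    (hT : ∀ B, B ∈ T ↔ B ≠ 0 ∧ eB (by omega : 3 ≤ m) ψ ρ B ≠ 0) :
    LinearMap.trace ℂ V X = LinearMap.trace ℂ V (X * eB (by omega : 3 ≤ m) ψ ρ 0) +
      ∑ B ∈ T, LinearMap.trace ℂ V (X * eB (by omega : 3 ≤ m) ψ ρ B) := by
  rw [trace_eq_sum (by omega : 3 ≤ m) ψ ρ hψ X, ← Finset.add_sum_erase _ _ (Finset.mem_univ 0)]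
  congr 1
  refine (Finset.sum_subset (fun B hB => Finset.mem_erase.2 ⟨((hT B).1 hB).1, Finset.mem_univ _⟩)
    fun B hB hB' => ?_).symm
  have hz : eB (by omega : 3 ≤ m) ψ ρ B = 0 := by
    by_contra h
    exact hB' ((hT B).2 ⟨(Finset.mem_erase.1 hB).1, h⟩)
  rw [hz, mul_zero, map_zero]

/-- The characters occurring in a small nontrivial representation. -/
theorem occ_spec (h3 : 3 < Fintype.card F) (hne : ∃ g, ρ g ≠ 1)
    (hN : (finrank ℂ V + 1) * (Fintype.card F ^ 2 - 1) ≤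
      (Fintype.card F ^ m - 1) * (Fintype.card F ^ (m - 1) + Fintype.card F)) :
    ∃ T : Finset (Matrix (Fin m) (Fin m) F),
      (∀ B, B ∈ T ↔ B ≠ 0 ∧ eB (by omega : 3 ≤ m) ψ ρ B ≠ 0) ∧
      (∀ B, B ∈ T ↔ B ≠ 0 ∧ ∃ u v, B = wedge u v) ∧
      (∀ B ∈ T, finrank ℂ (LinearMap.range (eB (by omega : 3 ≤ m) ψ ρ B)) = 1) ∧
      finrank ℂ V = finrank ℂ (LinearMap.range (eB (by omega : 3 ≤ m) ψ ρ 0)) + T.card ∧
      (Fintype.card F ^ m - 1) * (Fintype.card F ^ (m - 1) - 1) ≤ (Fintype.card F ^ 2 - 1) * T.card := by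
  classical
  have hm3 : 3 ≤ m := by omega
  let rk : Matrix (Fin m) (Fin m) F → ℕ := fun B => finrank ℂ (LinearMap.range (eB hm3 ψ ρ B))
  set T := Finset.univ.filter (fun B : Matrix (Fin m) (Fin m) F => B ≠ 0 ∧ eB hm3 ψ ρ B ≠ 0) with hTdef
  have hT : ∀ B, B ∈ T ↔ B ≠ 0 ∧ eB hm3 ψ ρ B ≠ 0 := fun B => by simp [hTdef]
  have hfr : finrank ℂ V = rk 0 + ∑ B ∈ T, rk B := by
    rw [finrank_eq_occ hm3 ψ ρ hψ]
  have hinv : LevInv T := fun g hg B hB =>
    (hT _).2 ⟨congr_ne_zero g ((hT B).1 hB).1, eB_congr_ne hm3 ψ ρ hg ((hT B).1 hB).2⟩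
  have hpos : ∀ B ∈ T, 1 ≤ rk B := fun B hB => by
    refine Nat.one_le_iff_ne_zero.2 fun e => ((hT B).1 hB).2 ?_
    exact LinearMap.range_eq_bot.1 (Submodule.finrank_eq_zero.1 e)
  have hcard : T.card ≤ finrank ℂ V := by
    have : T.card ≤ ∑ B ∈ T, rk B := by
      rw [Finset.card_eq_sum_ones]
      exact Finset.sum_le_sum hpos
    omega
  have hw : ∀ B ∈ T, ∃ u v, B = wedge u v := fun B hB => by
    by_contra hw
    exact nonwedge_arith h3 hm (card_nonwedge hm hinv hB (isAlt_of_eB hm3 ψ ρ hψ ((hT B).1 hB).2)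
      ((hT B).1 hB).1 hw) hcard hN
  obtain ⟨B₀, hB₀⟩ : T.Nonempty := by
    by_contra he
    rw [Finset.not_nonempty_iff_eq_empty] at he
    have hone : eB hm3 ψ ρ 0 = 1 := by
      rw [← sum_eB hm3 ψ ρ hψ, Finset.sum_eq_single 0 (fun B _ hB => ?_) (by simp)]
      by_contra h
      have := (hT B).2 ⟨hB, h⟩
      rw [he] at this
      simp at this
    obtain ⟨g, hg⟩ := hne
    obtain ⟨a, b, hab⟩ : ∃ a b : Fin m, a ≠ b := ⟨⟨0, by omega⟩, ⟨1, by omega⟩, by simp [Fin.ext_iff]⟩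
    refine hg (trivial_of_root hm3 ρ hab ?_ g)
    have := el_mul_eB hm3 ψ ρ (single a b 1) 0
    rw [hone, mul_one, pr_single, Matrix.zero_apply, mul_zero, AddChar.map_zero_eq_one, one_smul] at this
    exact this
  obtain ⟨u₀, v₀, rfl⟩ := hw B₀ hB₀
  have hall : ∀ B, B ∈ T ↔ B ≠ 0 ∧ ∃ u v, B = wedge u v := fun B => by
    refine ⟨fun hB => ⟨((hT B).1 hB).1, hw B hB⟩, ?_⟩
    rintro ⟨h0, u, v, rfl⟩
    exact wedge_mem hm3 hinv hB₀ ((hT _).1 hB₀).1 h0
  have htcard := card_rank_two hm3 T (fun g B hB => levInv_sl hm3 hinv g hB) hB₀ ((hT _).1 hB₀).1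
  have hone : ∀ B ∈ T, rk B = 1 := by
    intro B hB
    by_contra hne1
    have h2 : 2 ≤ rk B := by have := hpos B hB; omega
    have hinv2 : LevInv (T.filter fun B => 2 ≤ rk B) := fun g hg C hC => by
      obtain ⟨hC1, hC2⟩ := Finset.mem_filter.1 hC
      refine Finset.mem_filter.2 ⟨hinv g hg C hC1, ?_⟩
      simp only [rk, rank_eB_congr hm3 ψ ρ hg]
      exact hC2
    obtain ⟨u, v, rfl⟩ := hw B hB
    have hall2 : ∀ C ∈ T, 2 ≤ rk C := fun C hC => by
      obtain ⟨u', v', rfl⟩ := hw C hC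
      exact (Finset.mem_filter.1 (wedge_mem hm3 hinv2 (Finset.mem_filter.2 ⟨hB, h2⟩) ((hT _).1 hB).1
        ((hT _).1 hC).1)).2
    have : 2 * T.card ≤ ∑ B ∈ T, rk B := by
      rw [Finset.card_eq_sum_ones, Finset.mul_sum]
      exact Finset.sum_le_sum hall2
    exact double_arith h3 hm (show 2 * T.card ≤ finrank ℂ V by omega) htcard hN
  refine ⟨T, hT, hall, hone, ?_, htcard⟩
  rw [hfr, Finset.sum_congr rfl hone, Finset.sum_const, smul_eq_mul, mul_one]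

/-- The character at a root element of the radical. -/
theorem trace_root {a b : Fin m} (hab : a ≠ b) {T : Finset (Matrix (Fin m) (Fin m) F)}
    (hT : ∀ B, B ∈ T ↔ B ≠ 0 ∧ eB (by omega : 3 ≤ m) ψ ρ B ≠ 0)
    (hall : ∀ B, B ∈ T ↔ B ≠ 0 ∧ ∃ u v, B = wedge u v)
    (hone : ∀ B ∈ T, finrank ℂ (LinearMap.range (eB (by omega : 3 ≤ m) ψ ρ B)) = 1) :
    LinearMap.trace ℂ V (ρ (el (by omega : 3 ≤ m) (single a b (1 : F)))) =
      (finrank ℂ (LinearMap.range (eB (by omega : 3 ≤ m) ψ ρ 0)) : ℂ) + T.card -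
        (Fintype.card F : ℂ) ^ (2 * m - 3) := by
  classical
  have hm3 : 3 ≤ m := by omega
  have hterm : ∀ B, LinearMap.trace ℂ V (ρ (el hm3 (single a b (1 : F))) * eB hm3 ψ ρ B) =
      ψ (B a b) * (finrank ℂ (LinearMap.range (eB hm3 ψ ρ B)) : ℂ) := fun B => by
    rw [el_mul_eB, map_smul, trace_eB hm3 ψ ρ hψ, pr_single, one_mul, smul_eq_mul]
  have hscale : ∀ c : F, c ≠ 0 → ∑ B ∈ T, ψ (c * B a b) = ∑ B ∈ T, ψ (B a b) := by
    intro c hc
    have hmem : ∀ d : F, d ≠ 0 → ∀ B ∈ T, d • B ∈ T := fun d hd B hB => by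
      obtain ⟨h0, u, v, rfl⟩ := (hall B).1 hB
      exact (hall _).2 ⟨smul_ne_zero hd h0, d • u, v, by ext x y; simp [wedge_apply]; ring⟩
    refine Finset.sum_nbij' (fun B => c • B) (fun B => c⁻¹ • B) (hmem c hc) (hmem _ (inv_ne_zero hc))
      (fun B _ => by simp [smul_smul, hc]) (fun B _ => by simp [smul_smul, hc]) fun B _ => by simp
  have hsum : ∀ x : F, ∑ c ∈ Finset.univ.erase (0 : F), ψ (c * x) =
      (if x = 0 then (Fintype.card F : ℂ) else 0) - 1 := fun x => by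
    rw [Finset.sum_erase_eq_sub (Finset.mem_univ _), AddChar.sum_mulShift x hψ, zero_mul,
      AddChar.map_zero_eq_one]
    split_ifs <;> simp
  have hP := card_entry_ne hab hall
  set S := ∑ B ∈ T, ψ (B a b) with hS
  set P := (T.filter fun B => B a b ≠ 0).card with hPdef
  have key : ((Fintype.card F : ℂ) - 1) * S =
      ((Fintype.card F : ℂ) - 1) * T.card - (Fintype.card F : ℂ) * P := by
    have e1 : ∑ c ∈ Finset.univ.erase (0 : F), ∑ B ∈ T, ψ (c * B a b) = ((Fintype.card F : ℂ) - 1) * S := by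
      rw [Finset.sum_congr rfl fun c hc => hscale c (Finset.ne_of_mem_erase hc), Finset.sum_const,
        Finset.card_erase_of_mem (Finset.mem_univ _), Finset.card_univ, nsmul_eq_mul,
        Nat.cast_sub Fintype.card_pos, Nat.cast_one]
    rw [← e1, Finset.sum_comm]
    simp only [hsum]
    rw [Finset.sum_sub_distrib, ← Finset.sum_filter, Finset.sum_const, Finset.sum_const, nsmul_eq_mul, nsmul_eq_mul]
    have e2 := Finset.card_filter_add_card_filter_not (s := T) (fun B => B a b = 0)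
    have e3 : ((T.filter fun B => B a b = 0).card : ℂ) = T.card - P := by
      rw [eq_sub_iff_add_eq, ← Nat.cast_add]
      exact_mod_cast e2
    rw [e3]
    ring
  have hq1 : ((Fintype.card F : ℂ) - 1) ≠ 0 := by
    rw [sub_ne_zero]
    exact_mod_cast (Fintype.one_lt_card (α := F)).ne'
  have hS' : S = T.card - (Fintype.card F : ℂ) ^ (2 * m - 3) := by
    refine mul_left_cancel₀ hq1 ?_
    rw [key, hP, Nat.cast_mul, Nat.cast_sub Fintype.card_pos, Nat.cast_one, Nat.cast_pow,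
      show 2 * m - 3 = 2 * (m - 2) + 1 by omega, pow_succ]
    ring
  rw [trace_split hm ψ hψ ρ _ hT, hterm, Matrix.zero_apply, AddChar.map_zero_eq_one, one_mul]
  rw [Finset.sum_congr rfl fun B hB => show _ = ψ (B a b) by rw [hterm, hone B hB, Nat.cast_one, mul_one]]
  rw [← hS, hS']
  ring

/-- The Levi complement moves the fixed space of the radical. -/
theorem exists_moved (h3 : 3 < Fintype.card F) {a b : Fin m} (hab : a ≠ b) {T : Finset (Matrix (Fin m) (Fin m) F)}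
    (hT : ∀ B, B ∈ T ↔ B ≠ 0 ∧ eB (by omega : 3 ≤ m) ψ ρ B ≠ 0)
    (hall : ∀ B, B ∈ T ↔ B ≠ 0 ∧ ∃ u v, B = wedge u v)
    (hone : ∀ B ∈ T, finrank ℂ (LinearMap.range (eB (by omega : 3 ≤ m) ψ ρ B)) = 1) :
    ∃ g, ρ (le (by omega : 3 ≤ m) g) * eB (by omega : 3 ≤ m) ψ ρ 0 ≠ eB (by omega : 3 ≤ m) ψ ρ 0 := by
  classical
  by_contra hfix
  push Not at hfix
  have hm3 : 3 ≤ m := by omega
  set X := ρ (le hm3 (trv hab 1)) with hX
  have hterm : ∀ B ∈ T, LinearMap.trace ℂ V (X * eB hm3 ψ ρ B) =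
      if ∃ l, l ≠ b ∧ B a l ≠ 0 then 0 else 1 := by
    intro B hB
    obtain ⟨-, u, v, rfl⟩ := (hall B).1 hB
    split_ifs with hmv
    · obtain ⟨l, hlb, hl⟩ := hmv
      obtain ⟨B', hB'⟩ : ∃ B', B' = (trv hab (-1 : F)).1ᵀ * wedge u v * (trv hab (-1 : F)).1 := ⟨_, rfl⟩
      have hback : (trv hab (1 : F)).1ᵀ * B' * (trv hab (1 : F)).1 = wedge u v := by
        rw [hB', ← Matrix.mul_assoc, ← Matrix.mul_assoc, ← transpose_mul, ← sl_mul_val, trv_mul_trv, Matrix.mul_assoc,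
          ← sl_mul_val, trv_mul_trv, neg_add_cancel]
        simp [trv, transvection_zero]
      have hne : wedge u v ≠ B' := fun e => by
        have h1 := congrFun (congrFun (e.trans hB') b) l
        rw [trv_congr_apply] at h1
        simp [Ne.symm hlb] at h1
        exact hl h1
      have hc := lev_mul_eB hm3 ψ ρ (g := SpecialLinearGroup.toGL (trv hab (1 : F))) (leI_sl_mem hm3 _) B'
      rw [show (SpecialLinearGroup.toGL (trv hab (1 : F))).1ᵀ * B' * (SpecialLinearGroup.toGL (trv hab (1 : F))).1 =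
        wedge u v from hback] at hc
      refine trace_mul_eq_zero (E' := eB hm3 ψ ρ B') ?_ hc ?_
      · rw [eB_mul hm3 ψ ρ hψ, if_pos rfl]
      · rw [eB_mul hm3 ψ ρ hψ, if_neg hne]
    · push Not at hmv
      rw [hX, trv_mul_eB hm ψ hψ ρ h3 hab hmv (hone _ hB) 1, trace_eB hm3 ψ ρ hψ, hone _ hB, Nat.cast_one]
  set M := (T.filter fun B => ∃ l, l ≠ b ∧ B a l ≠ 0).card with hM
  have htr : LinearMap.trace ℂ V X = (finrank ℂ (LinearMap.range (eB hm3 ψ ρ 0)) : ℂ) + T.card - M := by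
    rw [trace_split hm ψ hψ ρ X hT, hX, hfix, trace_eB hm3 ψ ρ hψ, ← hX, Finset.sum_congr rfl hterm,
      Finset.sum_ite, Finset.sum_const_zero, zero_add, Finset.sum_const, nsmul_one]
    have e2 := Finset.card_filter_add_card_filter_not (s := T) (fun B => ∃ l, l ≠ b ∧ B a l ≠ 0)
    rw [← e2, Nat.cast_add, ← hM]
    ring
  have hconj : LinearMap.trace ℂ V (ρ (el hm3 (single a b (1 : F)))) = LinearMap.trace ℂ V X := by
    obtain ⟨c, hc⟩ := isConj_iff.1 (isConj_root (F := F) hm3 hab)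
    rw [hX, ← hc, map_mul, LinearMap.trace_mul_comm, ← map_mul]
    congr 2
    group
  rw [htr, trace_root hm ψ hψ ρ hab hT hall hone] at hconj
  have e : M = Fintype.card F ^ (2 * m - 3) := by
    have : (M : ℂ) = ((Fintype.card F ^ (2 * m - 3) : ℕ) : ℂ) := by
      push_cast
      linear_combination hconj
    exact_mod_cast this
  have hlt := card_row_ne (by omega : 2 ≤ m) a fun B hB => ((hall B).1 hB).2
  have hle : M ≤ (T.filter fun B => ∃ l, B a l ≠ 0).card := Finset.card_le_card fun B hB => by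
    obtain ⟨h1, l, -, h2⟩ := Finset.mem_filter.1 hB
    exact Finset.mem_filter.2 ⟨h1, l, h2⟩
  omega

end CfsgLib.Classical.OPlus
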