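/-
The Levi complement on the fixed space of the Siegel radical.
-/
import Cfsg.Agent.Lib.Classical.OmegaPlusDeg.Radical
import Cfsg.Agent.Lib.Classical.WeilOmega.Levi

set_option autoImplicit false

namespace CfsgLib.Classical.OPlus

open Matrix Module CfsgLib.LinDeg CfsgLib.Classical.WeilOmega CfsgLib.Classical.WeilSU CfsgLib.Perm.Trans CfsgLib.Perm.Trans.Quad

variable {F : Type*} [Field F] [Fintype F] {m : ℕ}

/-- A nontrivial Levi complement needs a large fixed space. -/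
theorem levi_bound (hm : 4 ≤ m) (h3 : 3 < Fintype.card F) (ψ : AddChar F ℂ) {V : Type} [AddCommGroup V] [Module ℂ V]
    [FiniteDimensional ℂ V] (ρ : Representation ℂ (Om F m) V)
    (h : ∃ g, ρ (le (by omega : 3 ≤ m) g) * eB (by omega : 3 ≤ m) ψ ρ 0 ≠ eB (by omega : 3 ≤ m) ψ ρ 0) :
    Fintype.card F ^ m - Fintype.card F ≤
      (Fintype.card F - 1) * finrank ℂ (LinearMap.range (eB (by omega : 3 ≤ m) ψ ρ 0)) := by
  classical
  obtain ⟨j, rfl⟩ : ∃ j, m = j + 1 := ⟨m - 1, by omega⟩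
  have hm3 : 3 ≤ j + 1 := by omega
  set E := eB hm3 ψ ρ 0 with hE
  have hq : 2 ≤ Fintype.card F := Fintype.one_lt_card
  have hc : ∀ g, ρ (le hm3 g) * E = E * ρ (le hm3 g) := fun g => by
    have := lev_mul_eB hm3 ψ ρ (g := SpecialLinearGroup.toGL g) (leI_sl_mem hm3 g) 0
    rwa [Matrix.mul_zero, Matrix.zero_mul] at this
  set σ := onRange (G := SpecialLinearGroup (Fin (j + 1)) F) (ρ.comp (le hm3)) E hc with hσ
  have htr : ∀ {x : SpecialLinearGroup (Fin (j + 1)) F}, IsTransv x.1 → σ x ≠ 1 := by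
    intro x hx hx1
    obtain ⟨g, hg⟩ := h
    apply hg
    have htop := eq_top_of_transv (by omega) σ.ker hx (MonoidHom.mem_ker.2 hx1)
    exact mul_eq_of_onRange (ρ.comp (le hm3)) E hc (MonoidHom.mem_ker.1 (htop ▸ Subgroup.mem_top g) : σ g = 1)
  set v : Fin j → F := fun _ => 1 with hv
  have hv0 : v ≠ 0 := fun h => one_ne_zero (congrFun h ⟨0, by omega⟩)
  obtain ⟨n, τ, hτ, hτ1, hn⟩ := exists_irr_ne_one σ (htr (uSL_isTransv hv0))
  haveI := hτ
  have hb := sl_bound (m := j) (by omega) (fun e => by omega) (fun e => by omega) (fun e => by omega) τ ⟨v, hτ1⟩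
  exact (geo_arith hq hb).trans (Nat.mul_le_mul_left _ hn)

end CfsgLib.Classical.OPlus
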