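/-
The minimal degree of the orthogonal groups of plus type over fields with more than three elements.
-/
import Cfsg.Agent.Lib.Classical.OmegaPlusDeg.Levi
import Cfsg.Agent.Lib.Classical.OmegaPlusDeg.Counting
import Cfsg.Agent.Lib.Classical.OmegaPlusDeg.ClassBound
import Cfsg.Agent.Lib.Classical.WeilSU.Final

set_option autoImplicit false

namespace CfsgLib.Classical.OPlus

open Matrix Module CfsgLib.LinDeg CfsgLib.Classical.WeilOmega

/-- The only possible degree below the bound. -/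
theorem degree_eq {q A k x t : ℕ} (hq : 4 ≤ q) (hA : q ≤ A) (hN : (k + 1) * (q ^ 2 - 1) ≤ (q * A - 1) * (A + q))
    (hk : k = x + t) (hx : q * A - q ≤ (q - 1) * x) (ht : (q * A - 1) * (A - 1) ≤ (q ^ 2 - 1) * t) :
    (k : ℤ) * ((q : ℤ) ^ 2 - 1) = ((A : ℤ) - 1) * (q * A + q ^ 2 + q - 1) := by
  have h1 : 1 ≤ q ^ 2 := Nat.one_le_pow _ _ (by omega)
  have h2 : q ≤ q * A := Nat.le_mul_of_pos_right _ (by omega)
  have h3 : 1 ≤ q * A := by omega
  have h4 : 1 ≤ q := by omega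
  have h5 : 1 ≤ A := by omega
  zify [h1, h2, h3, h4, h5] at hN hk hx ht
  rw [hk] at hN ⊢
  have hx' := mul_le_mul_of_nonneg_left hx (show (0 : ℤ) ≤ q + 1 by positivity)
  push_cast at hN ⊢
  nlinarith [hN, hx', ht]

/-- The degree left over is not possible. -/
theorem no_divisor {q A B Z k : ℤ} (e : ℕ) (hq : 4 ≤ q) (hA : q ^ 3 ≤ A) (hZ : Z = q * A) (hB : Z = q ^ 2 * B)
    (hk : k * (q ^ 2 - 1) = (A - 1) * (Z + q ^ 2 + q - 1))
    (hd : k * (q ^ 2 - 1) ∣ q ^ e * ((Z - 1) * (B + 1) * (A ^ 2 - 1))) : False := by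
  set Y := Z + q ^ 2 + q - 1 with hY
  have hq0 : 0 < q := by omega
  have hA0 : q ≤ q ^ 3 := le_self_pow₀ (by omega) (by omega)
  rw [hk, show q ^ e * ((Z - 1) * (B + 1) * (A ^ 2 - 1)) = (A - 1) * (q ^ e * ((Z - 1) * (B + 1) * (A + 1))) by ring] at hd
  have h1 := (mul_dvd_mul_iff_left (show A - 1 ≠ 0 by omega)).1 hd
  have hcop : IsCoprime Y q := ⟨-1, A + q + 1, by rw [hY, hZ]; ring⟩
  have h2 : Y ∣ (Z - 1) * (B + 1) * (A + 1) := (hcop.pow_right).dvd_of_dvd_mul_left h1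
  have h3 : Y ∣ (Z - 1) * (Z + q ^ 2) * (Z + q) := by
    refine (h2.mul_left (q ^ 2 * q)).trans (dvd_of_eq ?_)
    rw [show Z + q ^ 2 = q ^ 2 * (B + 1) by rw [hB]; ring, show Z + q = q * (A + 1) by rw [hZ]; ring]
    ring
  have h4 : (Z - 1) * (Z + q ^ 2) * (Z + q) + q * (q ^ 2 - 1) ^ 2 = Y * (Z ^ 2 + (q ^ 3 - q ^ 2 - q)) := by
    rw [hY]; ring
  have h5 : Y ∣ q * (q ^ 2 - 1) ^ 2 := (dvd_add_right h3).1 (h4 ▸ dvd_mul_right _ _)
  have h6 := hcop.dvd_of_dvd_mul_left h5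
  have hqq : 1 < q ^ 2 := by nlinarith
  have h7 := Int.le_of_dvd (by positivity) h6
  have h8 : q * q ^ 3 ≤ Z := by rw [hZ]; exact mul_le_mul_of_nonneg_left hA hq0.le
  rw [hY] at h7
  nlinarith

variable {F : Type*} [Field F] [Fintype F]

theorem class_bound (j : ℕ) (hj : 1 ≤ j) :
    Nat.card {x : Om F (2 + (j + 1)) // IsConj (el (hm := (by omega : 3 ≤ 2 + (j + 1)))
        (single (Fin.castAdd (j + 1) (0 : Fin 2)) (Fin.castAdd (j + 1) 1) (1 : F))) x} *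
      (Fintype.card F * (Fintype.card F ^ 2 - 1)) ∣
    Fintype.card F ^ (4 * j + 6) * (Fintype.card F ^ (j + 3) - 1) * (Fintype.card F ^ (j + 1) + 1) *
      (Fintype.card F ^ (2 * (j + 2)) - 1) := by
  have h1 := class_dvd (F := F) (j + 1) (by omega)
  have e : ∀ n : ℕ, n = j + 2 + 1 → Nat.card (Iso F n) = Fintype.card F ^ (4 * j + 6) * (Fintype.card F ^ (j + 3) - 1) *
      (Fintype.card F ^ (j + 1) + 1) * (Fintype.card F ^ (2 * (j + 2)) - 1) * Nat.card (Iso F (j + 1)) := by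
    rintro n rfl
    rw [card_iso_plus (F := F) (j + 2), card_iso_plus (F := F) j, Finset.prod_range_succ, Finset.prod_range_succ,
      show Fintype.card F ^ (2 * (j + 1)) - 1 =
        (Fintype.card F ^ (j + 1) + 1) * (Fintype.card F ^ (j + 1) - 1) by
        rw [← Nat.sq_sub_sq, one_pow, ← pow_mul, mul_comm],
      show (j + 2 + 1) * (j + 2) = (4 * j + 6) + (j + 1) * j by ring, pow_add]
    ring
  rw [e (2 + (j + 1)) (by omega), ← mul_assoc (Nat.card _)] at h1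
  exact Nat.dvd_of_mul_dvd_mul_right Nat.card_pos h1

/-- The bound on the degree. -/
theorem degree_bound (j : ℕ) (hj : 1 ≤ j) (h3 : 3 < Fintype.card F) (k : ℕ)
    (ρ : Representation ℂ (Om F (2 + (j + 1))) (Fin k → ℂ)) (hρ : ρ.IsIrreducible) (hk : 2 ≤ k) :
    (Fintype.card F ^ (2 + (j + 1)) - 1) * (Fintype.card F ^ (2 + (j + 1) - 1) + Fintype.card F) /
      (Fintype.card F ^ 2 - 1) ≤ k := by
  classical
  haveI := hρ
  have hq1 : 1 < Fintype.card F ^ 2 := Nat.one_lt_pow (by omega) (by omega)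
  by_contra hlt
  rw [not_le, ← Nat.add_one_le_iff, Nat.le_div_iff_mul_le (by omega)] at hlt
  have hN := hlt
  have hne := CfsgLib.Classical.WeilSU.exists_ne_one ρ hρ hk
  obtain ⟨ψ, hψ⟩ := exists_primitiveChar F ℂ (by
    rw [ringChar.eq_zero]
    exact fun h => CharP.ringChar_ne_zero_of_finite F h.symm)
  have hm : 4 ≤ 2 + (j + 1) := by omega
  have hm3 : 3 ≤ 2 + (j + 1) := by omega
  set a : Fin (2 + (j + 1)) := Fin.castAdd (j + 1) (0 : Fin 2) with ha
  set b : Fin (2 + (j + 1)) := Fin.castAdd (j + 1) (1 : Fin 2) with hb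
  have hab : a ≠ b := by simp [ha, hb, Fin.ext_iff]
  obtain ⟨T, hT, hall, hone, hdeg, htcard⟩ := occ_spec hm ψ hψ ρ h3 hne (by rw [Module.finrank_fin_fun]; exact hN)
  have hx := levi_bound hm h3 ψ ρ (exists_moved hm ψ hψ ρ h3 hab hT hall hone)
  rw [Module.finrank_fin_fun] at hdeg
  have htr : ρ.character (el hm3 (single a b (1 : F))) =
      (((k : ℤ) - (Fintype.card F : ℤ) ^ (2 * (2 + (j + 1)) - 3) : ℤ) : ℂ) := by
    rw [Representation.character, trace_root hm ψ hψ ρ hab hT hall hone]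
    push_cast [hdeg]
    ring
  have hdiv := dvd_card_class_mul ρ _ _ htr
  rw [mul_sub, dvd_sub_right (dvd_mul_left _ _)] at hdiv
  have hC := class_bound (F := F) j hj
  rw [← ha, ← hb] at hC
  set q := Fintype.card F with hq
  set C := Nat.card {x : Om F (2 + (j + 1)) // IsConj (el hm3 (single a b (1 : F))) x} with hCdef
  have hdN : k ∣ C * q ^ (2 * (2 + (j + 1)) - 3) := by exact_mod_cast hdiv
  have hd : k * (q ^ 2 - 1) ∣
      q ^ (2 * (2 + (j + 1)) - 3 + (4 * j + 6)) * ((q ^ (j + 3) - 1) * (q ^ (j + 1) + 1) * (q ^ (2 * (j + 2)) - 1)) := by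
    have e1 : C * q ^ (2 * (2 + (j + 1)) - 3) * (q * (q ^ 2 - 1)) =
        q ^ (2 * (2 + (j + 1)) - 3) * (C * (q * (q ^ 2 - 1))) := by ring
    refine (mul_dvd_mul hdN (dvd_mul_left (q ^ 2 - 1) q)).trans ?_
    rw [e1, pow_add, mul_assoc]
    refine mul_dvd_mul_left _ (hC.trans (dvd_of_eq ?_))
    ring
  rw [show 2 + (j + 1) - 1 = j + 2 by omega] at hN htcard
  have hpm : q ^ (2 + (j + 1)) = q * q ^ (j + 2) := by rw [← pow_succ']; congr 1; omega
  rw [hpm] at hN htcard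
  have hx' : q * q ^ (j + 2) - q ≤ (q - 1) * finrank ℂ (LinearMap.range (eB hm3 ψ ρ 0)) := by
    rw [← hpm]
    exact hx
  have hA : q ≤ q ^ (j + 2) := Nat.le_self_pow (by omega) _
  have hkey := degree_eq h3 hA hN hdeg hx' htcard
  have hdZ := Int.natCast_dvd_natCast.2 hd
  have h1 : 1 ≤ q ^ (j + 3) := Nat.one_le_pow _ _ (by omega)
  have h2 : 1 ≤ q ^ (2 * (j + 2)) := Nat.one_le_pow _ _ (by omega)
  push_cast [Nat.cast_sub hq1.le, Nat.cast_sub h1, Nat.cast_sub h2] at hdZ hkey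
  refine no_divisor (q := (q : ℤ)) (A := (q : ℤ) ^ (j + 2)) (B := (q : ℤ) ^ (j + 1)) (Z := (q : ℤ) ^ (j + 3)) (k := (k : ℤ))
    (2 * (2 + (j + 1)) - 3 + (4 * j + 6)) (by exact_mod_cast h3) (pow_le_pow_right₀ (by omega) (by omega)) ?_ ?_ ?_ ?_
  · rw [← pow_succ']
  · rw [← pow_add]; congr 1; omega
  · rw [show (q : ℤ) ^ (j + 3) = q * q ^ (j + 2) from pow_succ' _ _]; linear_combination hkey
  · refine hdZ.trans (dvd_of_eq ?_)
    ring

end CfsgLib.Classical.OPlus
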